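import Cfsg.Agent.PSp4Local.Squares

/-!
The linear group problem behind the local subgroup `N(M)` in groups of type `PSp₄(q)`: a group of
additive permutations of `F³` containing a unipotent group `Yp` and a torus `Tp`, in which the
stabiliser of a point of the first axis is `Yp Tp`.
-/

set_option autoImplicit false
set_option linter.unusedSimpArgs false
set_option linter.style.haveILetI false
set_option linter.unusedSectionVars false
open scoped Pointwise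

namespace Cfsg.Agent.PSp4Local

/-- Triples `(z, x, u)`. -/
abbrev V (F : Type*) := F × F × F

variable {F : Type*} [Field F]

/-- The unipotent map. -/
def Yp (b : F) : Equiv.Perm (V F) where
  toFun v := (v.1 - 2 * b * v.2.1 + b ^ 2 * v.2.2, v.2.1 - b * v.2.2, v.2.2)
  invFun v := (v.1 + 2 * b * v.2.1 + b ^ 2 * v.2.2, v.2.1 + b * v.2.2, v.2.2)
  left_inv v := by ext <;> simp only <;> ring
  right_inv v := by ext <;> simp only <;> ring

/-- The torus map. -/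
def Tp (l : Fˣ) : Equiv.Perm (V F) where
  toFun v := (v.1, (l : F) * v.2.1, (l : F) ^ 2 * v.2.2)
  invFun v := (v.1, ((l⁻¹ : Fˣ) : F) * v.2.1, ((l⁻¹ : Fˣ) : F) ^ 2 * v.2.2)
  left_inv v := by ext <;> simp only <;> simp [← mul_assoc, ← mul_pow]
  right_inv v := by ext <;> simp only <;> simp [← mul_assoc, ← mul_pow]

theorem Yp_apply (b : F) (v : V F) :
    Yp b v = (v.1 - 2 * b * v.2.1 + b ^ 2 * v.2.2, v.2.1 - b * v.2.2, v.2.2) := rfl

theorem Tp_apply (l : Fˣ) (v : V F) : Tp l v = (v.1, (l : F) * v.2.1, (l : F) ^ 2 * v.2.2) := rfl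

theorem Yp_mul (b c : F) : Yp b * Yp c = Yp (b + c) := by
  ext v <;> simp only [Equiv.Perm.mul_apply, Yp_apply] <;> ring

theorem Yp_zero : Yp (0 : F) = 1 := by
  ext v <;> simp [Yp_apply]

theorem Yp_inv (b : F) : (Yp b)⁻¹ = Yp (-b) :=
  inv_eq_of_mul_eq_one_right (by rw [Yp_mul, add_neg_cancel, Yp_zero])

theorem Tp_mul (l m : Fˣ) : Tp l * Tp m = Tp (l * m) := by
  ext v <;> simp only [Equiv.Perm.mul_apply, Tp_apply, Units.val_mul] <;> ring

theorem Tp_one : Tp (1 : Fˣ) = 1 := by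
  ext v <;> simp [Tp_apply]

theorem Tp_inv (l : Fˣ) : (Tp l)⁻¹ = Tp l⁻¹ :=
  inv_eq_of_mul_eq_one_right (by rw [Tp_mul, mul_inv_cancel, Tp_one])

theorem Tp_Yp (l : Fˣ) (b : F) : Tp l * Yp b = Yp (b * ((l⁻¹ : Fˣ) : F)) * Tp l := by
  ext v <;> simp only [Equiv.Perm.mul_apply, Yp_apply, Tp_apply] <;>
    simp [Units.val_inv_eq_inv_val] <;> field_simp

theorem YT_mul (b c : F) (l m : Fˣ) :
    Yp b * Tp l * (Yp c * Tp m) = Yp (b + c * ((l⁻¹ : Fˣ) : F)) * Tp (l * m) := by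
  rw [← mul_assoc, mul_assoc (Yp b), Tp_Yp, ← mul_assoc, Yp_mul, mul_assoc, Tp_mul]

/-- A point of the first axis. -/
abbrev zc (c : F) : V F := (c, 0, 0)

theorem Yp_zc (b c : F) : Yp b (zc c) = zc c := by simp [Yp_apply]

theorem Tp_zc (l : Fˣ) (c : F) : Tp l (zc c) = zc c := by simp [Tp_apply]

theorem YT_inj {b c : F} {l m : Fˣ} (h : Yp b * Tp l = Yp c * Tp m) : b = c ∧ l = m := by
  have h1 := DFunLike.congr_fun h ((0, 1, 0) : V F)
  have h2 := DFunLike.congr_fun h ((0, 0, 1) : V F)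
  simp [Equiv.Perm.mul_apply, Yp_apply, Tp_apply] at h1 h2
  obtain ⟨-, hl⟩ := h1
  have hlm : l = m := Units.ext hl
  subst hlm
  exact ⟨by have := h2.2; simpa [pow_eq_zero_iff] using this, rfl⟩

/-- The first axis. -/
def Z0 (F : Type*) [Field F] : Set (V F) := Set.range zc

theorem mem_Z0 {v : V F} : v ∈ Z0 F ↔ v.2 = 0 := by
  constructor
  · rintro ⟨c, rfl⟩; rfl
  · intro h; exact ⟨v.1, by ext <;> simp [zc, h]⟩

theorem zc_mem (c : F) : zc c ∈ Z0 F := ⟨c, rfl⟩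

theorem zero_mem_Z0 : (0 : V F) ∈ Z0 F := mem_Z0.2 rfl

/-- The middle axis. -/
def Xs (F : Type*) [Field F] : Set (V F) := Set.range fun x : F => ((0, x, 0) : V F)

/-- The last axis. -/
def Us (F : Type*) [Field F] : Set (V F) := Set.range fun u : F => ((0, 0, u) : V F)

theorem mem_Xs {v : V F} : v ∈ Xs F ↔ v.1 = 0 ∧ v.2.2 = 0 := by
  constructor
  · rintro ⟨c, rfl⟩; simp
  · intro h; exact ⟨v.2.1, by ext <;> simp [h]⟩

theorem mem_Us {v : V F} : v ∈ Us F ↔ v.1 = 0 ∧ v.2.1 = 0 := by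
  constructor
  · rintro ⟨c, rfl⟩; simp
  · intro h; exact ⟨v.2.2, by ext <;> simp [h]⟩

/-- The hypotheses on the group. -/
structure Setting [Fintype F] (p n : ℕ) (K : Subgroup (Equiv.Perm (V F))) : Prop where
  hp : p.Prime
  hp2 : p ≠ 2
  hn : 1 ≤ n
  card : Fintype.card F = p ^ n
  mod4 : Fintype.card F % 4 = 3
  add : ∀ g ∈ K, ∀ v w : V F, g (v + w) = g v + g w
  Y_mem : ∀ b : F, Yp b ∈ K
  T_mem : ∀ l : Fˣ, Tp l ∈ K
  stabZ : ∀ g ∈ K, ∀ c : F, c ≠ 0 → g (zc c) = zc c → ∃ b l, g = Yp b * Tp l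
  ti : ∀ g ∈ K, ∀ c d : F, c ≠ 0 → (g (zc c)).2 = 0 → (g (zc d)).2 = 0
  move : ∃ g ∈ K, (g (zc 1)).2 ≠ 0
  notTrans : ∃ c0 c1 : F, c0 ≠ 0 ∧ c1 ≠ 0 ∧ ∀ g ∈ K, g (zc c0) ≠ zc c1

variable [Fintype F] {p n : ℕ} {K : Subgroup (Equiv.Perm (V F))}

namespace Setting

variable (S : Setting p n K)
include S

theorem map_zero {g : Equiv.Perm (V F)} (hg : g ∈ K) : g 0 = 0 := by
  have := S.add g hg 0 0
  simpa using this

theorem map_neg {g : Equiv.Perm (V F)} (hg : g ∈ K) (v : V F) : g (-v) = -g v := by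
  have := S.add g hg (-v) v
  rw [neg_add_cancel, S.map_zero hg] at this
  exact eq_neg_of_add_eq_zero_left this.symm

theorem map_sub {g : Equiv.Perm (V F)} (hg : g ∈ K) (v w : V F) : g (v - w) = g v - g w := by
  rw [sub_eq_add_neg, S.add g hg, S.map_neg hg, ← sub_eq_add_neg]

theorem charP : CharP F p := by
  haveI := Fact.mk S.hp
  exact charP_of_card_eq_prime_pow S.card

theorem two_ne' : (2 : F) ≠ 0 := two_ne S.mod4

theorem card_pos : 1 < Fintype.card F := Fintype.one_lt_card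

theorem p_dvd_card : p ∣ Fintype.card F := by
  rw [S.card]; exact dvd_pow_self p (by have := S.hn; omega)

/-- An element mapping a nonzero point of the axis into the axis stabilises the axis. -/
theorem image_Z0 {g : Equiv.Perm (V F)} (hg : g ∈ K) {c : F} (hc : c ≠ 0)
    (h : (g (zc c)).2 = 0) : g '' Z0 F = Z0 F := by
  have hsub : g '' Z0 F ⊆ Z0 F := by
    rintro _ ⟨_, ⟨d, rfl⟩, rfl⟩
    exact mem_Z0.2 (S.ti g hg c d hc h)
  refine Set.eq_of_subset_of_ncard_le hsub ?_ (Set.toFinite _)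
  rw [Set.ncard_image_of_injective _ g.injective]

/-- The image of the axis under a group element, as a point. -/
def Pt (_ : Setting p n K) : Set (Set (V F)) := {P | ∃ g ∈ K, g '' Z0 F = P}

theorem Z0_mem : Z0 F ∈ S.Pt := ⟨1, one_mem _, by simp⟩

theorem image_mem {P : Set (V F)} (hP : P ∈ S.Pt) {g : Equiv.Perm (V F)} (hg : g ∈ K) :
    g '' P ∈ S.Pt := by
  obtain ⟨h, hh, rfl⟩ := hP
  exact ⟨g * h, mul_mem hg hh, by rw [Equiv.Perm.coe_mul, Set.image_comp]⟩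

theorem zero_mem_pt {P : Set (V F)} (hP : P ∈ S.Pt) : (0 : V F) ∈ P := by
  obtain ⟨h, hh, rfl⟩ := hP
  exact ⟨0, zero_mem_Z0, S.map_zero hh⟩

theorem sub_mem_pt {P : Set (V F)} (hP : P ∈ S.Pt) {v w : V F} (hv : v ∈ P) (hw : w ∈ P) :
    v - w ∈ P := by
  obtain ⟨h, hh, rfl⟩ := hP
  obtain ⟨v, hv, rfl⟩ := hv
  obtain ⟨w, hw, rfl⟩ := hw
  exact ⟨v - w, mem_Z0.2 (by simp [mem_Z0.1 hv, mem_Z0.1 hw]), S.map_sub hh v w⟩

theorem add_mem_pt {P : Set (V F)} (hP : P ∈ S.Pt) {v w : V F} (hv : v ∈ P) (hw : w ∈ P) :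
    v + w ∈ P := by
  have := S.sub_mem_pt hP hv (S.sub_mem_pt hP (S.zero_mem_pt hP) hw)
  simpa using this

theorem ncard_pt {P : Set (V F)} (hP : P ∈ S.Pt) : P.ncard = Fintype.card F := by
  obtain ⟨h, hh, rfl⟩ := hP
  rw [Set.ncard_image_of_injective _ h.injective, Z0,
    Set.ncard_range_of_injective (fun a b e => by simpa [zc] using e), Nat.card_eq_fintype_card]

/-- Two points with a common nonzero vector coincide. -/
theorem pt_eq {P Q : Set (V F)} (hP : P ∈ S.Pt) (hQ : Q ∈ S.Pt) {v : V F} (hv : v ≠ 0)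
    (hvP : v ∈ P) (hvQ : v ∈ Q) : P = Q := by
  obtain ⟨g, hg, rfl⟩ := hP
  obtain ⟨h, hh, rfl⟩ := hQ
  obtain ⟨a, ⟨c, rfl⟩, hga⟩ := hvP
  obtain ⟨b, ⟨d, rfl⟩, hhb⟩ := hvQ
  have hc : c ≠ 0 := fun e => hv (by rw [← hga, e]; exact S.map_zero hg)
  have e1 : (h⁻¹ * g) (zc c) = zc d := by
    rw [Equiv.Perm.mul_apply, hga, ← hhb, Equiv.Perm.coe_inv, Equiv.symm_apply_apply]
  have h2 := S.image_Z0 (mul_mem (inv_mem hh) hg) hc (by rw [e1]; rfl)
  calc g '' Z0 F = (h * (h⁻¹ * g)) '' Z0 F := by rw [mul_inv_cancel_left]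
    _ = h '' ((h⁻¹ * g) '' Z0 F) := by rw [Equiv.Perm.coe_mul, Set.image_comp]
    _ = h '' Z0 F := by rw [h2]

theorem ne_Z0_mem {P : Set (V F)} (hP : P ∈ S.Pt) (hne : P ≠ Z0 F) {v : V F} (hv : v ∈ P)
    (h2 : v.2 = 0) : v = 0 := by
  by_contra h0
  exact hne (S.pt_eq hP S.Z0_mem h0 hv (mem_Z0.2 h2))

theorem exists_ne_Z0 : ∃ P ∈ S.Pt, P ≠ Z0 F := by
  obtain ⟨g, hg, h⟩ := S.move
  exact ⟨_, ⟨g, hg, rfl⟩, fun e => h (mem_Z0.1 (e ▸ ⟨_, zc_mem 1, rfl⟩))⟩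

/-- An element of order `p` stabilising the axis fixes it pointwise. -/
theorem fix_of_order {g : Equiv.Perm (V F)} (hg : g ∈ K) (hgp : g ^ p = 1)
    (h : g '' Z0 F = Z0 F) : ∃ b l, g = Yp b * Tp l := by
  classical
  haveI := Fact.mk S.hp
  have hiff : ∀ v : V F, (v ∈ Z0 F ∧ v ≠ 0) ↔ (g v ∈ Z0 F ∧ g v ≠ 0) := by
    intro v
    have e : g v ∈ Z0 F ↔ v ∈ Z0 F := by
      conv_lhs => rw [← h]
      exact g.injective.mem_set_image
    have e0 : g v = 0 ↔ v = 0 := g.injective.eq_iff' (S.map_zero hg)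
    rw [e]
    exact and_congr_right fun _ => (not_congr e0).symm
  let σ : Equiv.Perm {v : V F // v ∈ Z0 F ∧ v ≠ 0} := g.subtypePerm fun v => (hiff v).symm
  have hσ : σ ^ p ^ 1 = 1 := by
    rw [pow_one]
    simp only [σ, Equiv.Perm.subtypePerm_pow]
    ext ⟨v, hv⟩ <;> simp [hgp]
  have hcard : ¬ p ∣ Fintype.card {v : V F // v ∈ Z0 F ∧ v ≠ 0} := by
    have e : {v : V F // v ∈ Z0 F ∧ v ≠ 0} ≃ {c : F // c ≠ 0} :=
      { toFun := fun v => ⟨v.1.1, fun hc => v.2.2 (by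
          have := mem_Z0.1 v.2.1
          ext <;> simp [hc, this])⟩
        invFun := fun c => ⟨zc c.1, zc_mem _, fun hc => c.2 (by simpa [zc] using hc)⟩
        left_inv := fun v => Subtype.ext (by ext <;> simp [zc, mem_Z0.1 v.2.1])
        right_inv := fun c => rfl }
    rw [Fintype.card_congr e, Fintype.card_subtype_compl, Fintype.card_subtype_eq]
    intro hd
    have h1 := S.p_dvd_card
    have := Nat.dvd_sub h1 hd
    rw [show Fintype.card F - (Fintype.card F - 1) = 1 by have := S.card_pos; omega] at this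
    exact S.hp.one_lt.ne' (Nat.dvd_one.1 this)
  obtain ⟨⟨v, hv, hv0⟩, hfix⟩ := Equiv.Perm.exists_fixed_point_of_prime hcard hσ
  obtain ⟨c, rfl⟩ := hv
  refine S.stabZ g hg c (fun hc => hv0 (by simp [zc, hc])) ?_
  simpa [σ] using congrArg Subtype.val hfix

end Setting

end Cfsg.Agent.PSp4Local
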