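import Cfsg.Agent.PSp4Local.Torus

/-!
When the last axis is a point: the orders of the stabilisers, and an element exchanging the two
axes.
-/

set_option autoImplicit false
set_option linter.unusedSimpArgs false
set_option linter.style.haveILetI false
set_option linter.unusedSectionVars false
open scoped Pointwise

namespace Cfsg.Agent.PSp4Local

variable {F : Type*} [Field F] [Fintype F] {p n : ℕ} {K : Subgroup (Equiv.Perm (V F))}

namespace Setting

variable (S : Setting p n K)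
include S

theorem jm_Us : jm F '' Us F = Us F := S.Tp_Us _

theorem Us_ne_Z0 : Us F ≠ Z0 F := fun e => by
  have h : ((0, 0, 1) : V F) ∈ Z0 F := e ▸ ⟨1, rfl⟩
  simpa using congrArg Prod.snd (mem_Z0.1 h)

theorem Us_mem_F0 (h : Us F ∈ S.Pt) : Us F ∈ S.F0 := ⟨h, S.Us_ne_Z0, S.jm_Us⟩

theorem C0_jm {b : F} {l : Fˣ} (h : jm F * (Yp b * Tp l) = Yp b * Tp l * jm F) : b = 0 := by
  rw [jm, ← mul_assoc, Tp_Yp, mul_assoc, Tp_mul, mul_assoc (Yp b), Tp_mul] at h
  obtain ⟨h1, -⟩ := YT_inj h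
  simp at h1
  have : (2 : F) * b = 0 := by linear_combination -h1
  exact (mul_eq_zero.1 this).resolve_left S.two_ne'

theorem Tp_mem_CB (l : Fˣ) : Tp l ∈ S.CB :=
  ⟨S.C0_le_Bs ⟨0, l, Tp_eq_YT l⟩, S.mem_Cj.2 ⟨S.T_mem l, by rw [jm, Tp_mul, Tp_mul, mul_comm]⟩⟩

theorem CB_normalizes {g : Equiv.Perm (V F)} (hg : g ∈ S.CB) (l : Fˣ) :
    ∃ m, g * Tp l * g⁻¹ = Tp m := by
  obtain ⟨hgB, hgC⟩ := hg
  have hK : g * Tp l * g⁻¹ ∈ K := mul_mem (mul_mem hgB.1 (S.T_mem l)) (inv_mem hgB.1)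
  obtain ⟨b, m, e⟩ := S.stabZ _ hK 1 one_ne_zero (by
    have h1 : g⁻¹ (zc 1) ∈ Z0 F := by
      have := (S.mem_Bs.1 (inv_mem hgB)).2
      rw [← this]; exact ⟨_, zc_mem 1, rfl⟩
    obtain ⟨c, hc⟩ := h1
    simp only [Equiv.Perm.mul_apply]
    rw [← hc, Tp_zc, hc, Equiv.Perm.coe_inv, Equiv.apply_symm_apply])
  have hC : g * Tp l * g⁻¹ ∈ S.Cj :=
    mul_mem (mul_mem hgC (S.Tp_mem_CB l).2) (inv_mem hgC)
  rw [e] at hC
  exact ⟨m, by rw [e, S.C0_jm (S.mem_Cj.1 hC).2, Yp_zero, one_mul]⟩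

theorem exists_sq_ne_one (h3 : 3 < Fintype.card F) : ∃ l : Fˣ, (l : F) ^ 2 ≠ 1 := by
  by_contra h
  push Not at h
  have hsub : sqGrp F ≤ ⊥ := by
    rintro _ ⟨m, rfl⟩
    rw [Subgroup.mem_bot]
    exact Units.ext (by simpa using h m)
  have h1 := Subgroup.card_le_of_le hsub
  rw [Subgroup.card_bot] at h1
  have := card_sqGrp (F := F) S.mod4
  omega

theorem CB_fix {g : Equiv.Perm (V F)} (hg : g ∈ S.CB) : g '' Z0 F = Z0 F := (S.mem_Bs.1 hg.1).2

theorem Cj_fix_jm {g : Equiv.Perm (V F)} (hg : g ∈ S.Cj) {P : Set (V F)} (hP : jm F '' P = P) :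
    jm F '' (g '' P) = g '' P := by
  rw [← Set.image_comp, ← Equiv.Perm.coe_mul, (S.mem_Cj.1 hg).2, Equiv.Perm.coe_mul,
    Set.image_comp, hP]

/-- The orbit of a vector of the axis. -/
def orb (c : F) : Set F := {d | ∃ g ∈ S.Bs, g (zc c) = zc d}

theorem card_Bs_orb {c : F} (hc : c ≠ 0) :
    Nat.card S.Bs = Nat.card (C0 F) * (S.orb c).ncard := by
  have h := MulAction.index_stabilizer S.Bs (zc c : V F)
  have hset : MulAction.orbit S.Bs (zc c : V F) = zc '' S.orb c := by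
    ext v
    constructor
    · rintro ⟨⟨g, hg⟩, rfl⟩
      have h1 : g (zc c) ∈ Z0 F := by rw [← (S.mem_Bs.1 hg).2]; exact ⟨_, zc_mem c, rfl⟩
      obtain ⟨d, hd⟩ := h1
      exact ⟨d, ⟨g, hg, hd.symm⟩, hd⟩
    · rintro ⟨d, ⟨g, hg, e⟩, rfl⟩
      exact ⟨⟨g, hg⟩, e⟩
  rw [hset, Set.ncard_image_of_injective _ (fun a b e => congrArg Prod.fst e)] at h
  have hcd : Nat.card (MulAction.stabilizer S.Bs (zc c : V F)) = Nat.card (C0 F) :=
    Nat.card_congr
      { toFun := fun g => ⟨g.1.1, S.mem_C0_of_fix g.1.2.1 hc g.2⟩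
        invFun := fun g => ⟨⟨g.1, S.C0_le_Bs g.2⟩, C0_fix g.2 c⟩
        left_inv := fun _ => rfl
        right_inv := fun _ => rfl }
  rw [← Subgroup.card_mul_index (MulAction.stabilizer S.Bs (zc c : V F)), hcd, h]

theorem orb_ne_zero {c : F} (hc : c ≠ 0) : S.orb c ⊆ {d | d ≠ 0} := by
  rintro d ⟨g, hg, e⟩ rfl
  have h0 : zc c = (0 : V F) := g.injective (e.trans (S.map_zero hg.1).symm)
  exact hc (congrArg Prod.fst h0)

theorem orb_large {h : Equiv.Perm (V F)} (hh : h ∈ K) (hU : h '' Z0 F = Us F) {c : F} (hc : c ≠ 0) :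
    Nat.card (sqGrp F) ≤ (S.orb c).ncard := by
  obtain ⟨u, hu⟩ : h (zc c) ∈ Us F := hU ▸ ⟨_, zc_mem c, rfl⟩
  change ((0, 0, u) : V F) = _ at hu
  have hu0 : u ≠ 0 := fun e => by
    rw [e] at hu
    exact hc (congrArg Prod.fst (h.injective ((S.map_zero hh).trans hu))).symm
  have key : ∀ s : sqGrp F, ∃ d ∈ S.orb c, h (zc d) = ((0, 0, (s.1 : F) * u) : V F) := by
    rintro ⟨_, l, rfl⟩
    obtain ⟨_, ⟨d, rfl⟩, hd⟩ :
        ((0, 0, ((powMonoidHom 2 l : Fˣ) : F) * u) : V F) ∈ h '' Z0 F := hU.symm ▸ ⟨_, rfl⟩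
    have e : (h⁻¹ * Tp l * h) (zc c) = zc d := by
      rw [Equiv.Perm.mul_apply, Equiv.Perm.mul_apply, ← hu, Tp_apply, Equiv.Perm.coe_inv,
        Equiv.symm_apply_eq, hd]
      simp
    refine ⟨d, ⟨h⁻¹ * Tp l * h, S.mem_Bs.2 ⟨mul_mem (mul_mem (inv_mem hh) (S.T_mem l)) hh, ?_⟩, e⟩, hd⟩
    exact S.image_Z0 (mul_mem (mul_mem (inv_mem hh) (S.T_mem l)) hh) hc (by rw [e]; rfl)
  choose f hf hf' using key
  have hinj : Function.Injective (fun s => (⟨f s, hf s⟩ : S.orb c)) := fun s t e => by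
    have e1 : f s = f t := congrArg Subtype.val e
    have e2 := hf' s
    rw [e1, hf' t] at e2
    have e3 := congrArg (fun v : V F => v.2.2) e2
    exact Subtype.ext (Units.ext (mul_right_cancel₀ hu0 e3).symm)
  have := Nat.card_le_card_of_injective _ hinj
  rwa [Nat.card_coe_set_eq] at this

section

variable (hU : Us F ∈ S.Pt)
include hU

theorem card_Bs : Nat.card S.Bs = Fintype.card F * (Fintype.card F - 1) * Nat.card (sqGrp F) := by
  obtain ⟨h, hh, e⟩ := hU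
  obtain ⟨c0, c1, h0, h1, hc⟩ := S.notTrans
  have hdis : Disjoint (S.orb c0) (S.orb c1) := Set.disjoint_left.2 fun d hd hd' => by
    obtain ⟨g, hg, eg⟩ := hd
    obtain ⟨g', hg', eg'⟩ := hd'
    refine hc (g'⁻¹ * g) (mul_mem (inv_mem hg'.1) hg.1) ?_
    rw [Equiv.Perm.mul_apply, eg, ← eg', Equiv.Perm.coe_inv, Equiv.symm_apply_apply]
  have hle := Set.ncard_le_ncard (Set.union_subset (S.orb_ne_zero h0) (S.orb_ne_zero h1))
    (Set.toFinite _)
  rw [Set.ncard_union_eq hdis (Set.toFinite _) (Set.toFinite _)] at hle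
  have hne : Set.ncard {d : F | d ≠ 0} = Fintype.card F - 1 := by
    have hset : {d : F | d ≠ 0} = ({0} : Set F)ᶜ := rfl
    rw [hset, Set.ncard_compl, Set.ncard_singleton, Nat.card_eq_fintype_card]
  have b0 := S.orb_large hh e h0
  have b1 := S.orb_large hh e h1
  have := card_sqGrp (F := F) S.mod4
  rw [S.card_Bs_orb h0, card_C0, show (S.orb c0).ncard = Nat.card (sqGrp F) by omega]

theorem card_CB : Nat.card S.CB = (Fintype.card F - 1) * Nat.card (sqGrp F) := by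
  have h := S.card_Bs_CB
  rw [S.card_Bs hU, mul_assoc] at h
  exact (Nat.eq_of_mul_eq_mul_left Fintype.card_pos h).symm

theorem CB_Us {g : Equiv.Perm (V F)} (hg : g ∈ S.CB) : g '' Us F = Us F := by
  by_cases h3 : Fintype.card F = 3
  · have hT : ∃ l, g = Tp l := by
      by_contra hne
      push Not at hne
      have hinj : Function.Injective (fun o : Option Fˣ =>
          (o.elim ⟨g, hg⟩ (fun l => ⟨Tp l, S.Tp_mem_CB l⟩) : S.CB)) := by
        rintro (_ | a) (_ | b) e <;> have e' := congrArg Subtype.val e <;> simp at e'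
        · rfl
        · exact absurd e' (hne b)
        · exact absurd e'.symm (hne a)
        · have := (YT_inj ((Tp_eq_YT a).symm.trans (e'.trans (Tp_eq_YT b)))).2
          rw [this]
      have h1 := Nat.card_le_card_of_injective _ hinj
      rw [S.card_CB hU, Finite.card_option, Nat.card_units, Nat.card_eq_fintype_card, h3] at h1
      have := card_sqGrp (F := F) S.mod4
      rw [h3] at this
      omega
    obtain ⟨l, rfl⟩ := hT
    exact S.Tp_Us l
  obtain ⟨l, hl⟩ := S.exists_sq_ne_one (by have := S.mod4; omega)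
  obtain ⟨m, hm⟩ := S.CB_normalizes (inv_mem hg) l
  refine S.eq_Us_of_F0 (l := l) ⟨S.image_mem hU hg.1.1, S.image_ne S.Us_ne_Z0 (S.CB_fix hg),
    S.Cj_fix_jm hg.2 S.jm_Us⟩ hl ?_
  have e : Tp l * g = g * Tp m := by rw [← hm]; group
  rw [← Set.image_comp, ← Equiv.Perm.coe_mul, e, Equiv.Perm.coe_mul, Set.image_comp, S.Tp_Us]

theorem three_F0 (h3 : Fintype.card F = 3) : S.F0.ncard = 1 := by
  have hpos : 0 < S.F0.ncard := (Set.ncard_pos (Set.toFinite _)).2 ⟨_, S.Us_mem_F0 hU⟩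
  have h1 := S.F0_bound
  have h2 := S.F0_le
  have h4 := S.kk_le
  have h5 := S.F0_dvd'
  have h6 := S.not_dvd_F0
  have hp : p = 3 := by
    have := S.p_dvd_card
    rw [h3] at this
    exact (Nat.prime_dvd_prime_iff_eq S.hp Nat.prime_three).1 this
  subst hp
  rw [h3] at h1 h4 h5
  generalize S.F0.ncard = f at *
  generalize S.kk = k at *
  interval_cases f <;> interval_cases k <;> omega

theorem exists_swap : ∃ h ∈ S.Cj, h '' Z0 F = Us F ∧ h '' Us F = Z0 F := by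
  obtain ⟨h, hh, e⟩ := S.exists_Cj_of_fix hU S.jm_Us
  refine ⟨h, hh, e, ?_⟩
  by_contra hne
  have hF : h '' Us F ∈ S.F0 := ⟨S.image_mem hU hh.1, hne, S.Cj_fix_jm hh S.jm_Us⟩
  have hneU : h '' Us F ≠ Us F := fun e' =>
    S.Us_ne_Z0 (h.injective.image_injective (e'.trans e.symm))
  by_cases h3 : Fintype.card F = 3
  · obtain ⟨a, ha⟩ := Set.ncard_eq_one.1 (S.three_F0 hU h3)
    have h1 : Us F ∈ S.F0 := S.Us_mem_F0 hU
    rw [ha, Set.mem_singleton_iff] at h1 hF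
    exact hneU (hF.trans h1.symm)
  obtain ⟨l, hl⟩ := S.exists_sq_ne_one (by have := S.mod4; omega)
  refine hneU (S.eq_Us_of_F0 hF hl ?_)
  have hc : h⁻¹ * Tp l * h ∈ S.CB :=
    ⟨S.mem_Bs.2 ⟨mul_mem (mul_mem (inv_mem hh.1) (S.T_mem l)) hh.1,
      S.conj_stab e (S.Tp_Us l)⟩, S.Cj.mul_mem (S.Cj.mul_mem (S.Cj.inv_mem hh) (S.Tp_mem_CB l).2) hh⟩
  have h1 := S.CB_Us hU hc
  have e2 : Tp l * h = h * (h⁻¹ * Tp l * h) := by group
  rw [← Set.image_comp, ← Equiv.Perm.coe_mul, e2, Equiv.Perm.coe_mul, Set.image_comp, h1]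

theorem even_F0_succ : 2 ∣ S.F0.ncard + 1 := by
  obtain ⟨h, hh, e1, e2⟩ := S.exists_swap hU
  let H : Subgroup (Equiv.Perm (V F)) :=
    { carrier := {g | g ∈ S.Cj ∧ ((g '' Z0 F = Z0 F ∧ g '' Us F = Us F) ∨
        (g '' Z0 F = Us F ∧ g '' Us F = Z0 F))}
      one_mem' := ⟨one_mem _, Or.inl (by simp)⟩
      mul_mem' := by
        rintro a b ⟨ha, ha'⟩ ⟨hb, hb'⟩
        refine ⟨mul_mem ha hb, ?_⟩
        simp only [Equiv.Perm.coe_mul, Set.image_comp]
        rcases ha' with ⟨x1, x2⟩ | ⟨x1, x2⟩ <;> rcases hb' with ⟨y1, y2⟩ | ⟨y1, y2⟩ <;>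
          rw [y1, y2, x1, x2] <;> simp
      inv_mem' := by
        rintro a ⟨ha, ha'⟩
        refine ⟨inv_mem ha, ?_⟩
        have key : ∀ A B : Set (V F), a '' A = B → (a⁻¹ : Equiv.Perm (V F)) '' B = A := by
          intro A B hAB
          rw [← hAB, ← Set.image_comp, ← Equiv.Perm.coe_mul, inv_mul_cancel]
          simp
        rcases ha' with ⟨x1, x2⟩ | ⟨x1, x2⟩
        · exact Or.inl ⟨key _ _ x1, key _ _ x2⟩
        · exact Or.inr ⟨key _ _ x2, key _ _ x1⟩ }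
  have hi := MulAction.index_stabilizer H (Z0 F : Set (V F))
  have hset : MulAction.orbit H (Z0 F : Set (V F)) = {Z0 F, Us F} := by
    ext P
    constructor
    · rintro ⟨⟨g, -, hg⟩, rfl⟩
      rcases hg with ⟨x1, -⟩ | ⟨x1, -⟩
      · exact Or.inl x1
      · exact Or.inr x1
    · rintro (rfl | rfl)
      · exact MulAction.mem_orbit_self _
      · exact ⟨⟨h, hh, Or.inr ⟨e1, e2⟩⟩, e1⟩
  rw [hset, Set.ncard_pair S.Us_ne_Z0.symm] at hi
  have hc : Nat.card (MulAction.stabilizer H (Z0 F : Set (V F))) = Nat.card S.CB :=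
    Nat.card_congr
      { toFun := fun g => ⟨g.1.1, ⟨g.1.2.1.1, g.2⟩, g.1.2.1⟩
        invFun := fun g => ⟨⟨g.1, g.2.2, Or.inl ⟨S.CB_fix g.2, S.CB_Us hU g.2⟩⟩, g.2.1.2⟩
        left_inv := fun _ => rfl
        right_inv := fun _ => rfl }
  have hH := Subgroup.card_mul_index (MulAction.stabilizer H (Z0 F : Set (V F)))
  rw [hc, hi] at hH
  have hd : Nat.card H ∣ Nat.card S.Cj := Subgroup.card_dvd_of_le fun g hg => hg.1
  rw [← hH, S.card_Cj, mul_comm (S.F0.ncard + 1)] at hd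
  exact Nat.dvd_of_mul_dvd_mul_left Nat.card_pos hd

theorem F0_one : S.F0.ncard = 1 := by
  obtain ⟨r, hr⟩ := S.F0_form_mem (S.Us_mem_F0 hU)
  have hb := S.F0_bound
  have he := S.even_F0_succ hU
  have hq := S.mod4
  have hF := S.F0_le
  have hk := S.kk_le
  have hd := S.F0_dvd'
  set q := Fintype.card F
  have hr2 : r ≤ 2 := by
    by_contra h
    have := Nat.mul_le_mul_left ((q - 1) / 2) (show 3 ≤ r by omega)
    omega
  interval_cases r
  · simpa using hr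
  · exfalso; rw [hr] at he; omega
  · exfalso
    have hf : S.F0.ncard = q := by omega
    rw [hf] at hd hF
    have h2 : q + 1 ∣ (q + 1) * S.kk := dvd_mul_right _ _
    have h3 : (q + 1) * S.kk - (1 + q * S.kk) = S.kk - 1 := by
      rw [add_mul, one_mul]; omega
    have h4 := Nat.dvd_sub h2 hd
    rw [h3] at h4
    have := Nat.le_of_dvd (by omega) h4
    omega

theorem F0_eq : S.F0 = {Us F} := by
  obtain ⟨a, ha⟩ := Set.ncard_eq_one.1 (S.F0_one hU)
  have h1 : Us F ∈ S.F0 := S.Us_mem_F0 hU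
  rw [ha, Set.mem_singleton_iff] at h1
  rw [ha, h1]

end

end Setting

end Cfsg.Agent.PSp4Local
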