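import Cfsg.Agent.PSp4Local.Odd
import Cfsg.Agent.PSp4Local.Swap

/-!
The stabiliser of the two axes consists of diagonal maps, and the element exchanging the axes is
linear and preserves the conic `x ^ 2 = z u`.
-/

set_option autoImplicit false
set_option linter.unusedSimpArgs false
set_option linter.style.haveILetI false
set_option linter.unusedSectionVars false
open scoped Pointwise

namespace Cfsg.Agent.PSp4Local

section Maps

variable {F : Type*} [Field F]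

/-- The torus map seen from the other axis. -/
def Sn (t : Fˣ) : Equiv.Perm (V F) where
  toFun v := ((t : F) ^ 2 * v.1, (t : F) * v.2.1, v.2.2)
  invFun v := (((t⁻¹ : Fˣ) : F) ^ 2 * v.1, ((t⁻¹ : Fˣ) : F) * v.2.1, v.2.2)
  left_inv v := by ext <;> simp only <;> simp [← mul_assoc, ← mul_pow]
  right_inv v := by ext <;> simp only <;> simp [← mul_assoc, ← mul_pow]

theorem Sn_apply (t : Fˣ) (v : V F) :
    Sn t v = ((t : F) ^ 2 * v.1, (t : F) * v.2.1, v.2.2) := rfl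

theorem SnTp_apply (t l : Fˣ) (v : V F) :
    (Sn t * Tp l) v = ((t : F) ^ 2 * v.1, (t : F) * (l : F) * v.2.1, (l : F) ^ 2 * v.2.2) := by
  simp [Equiv.Perm.mul_apply, Sn_apply, Tp_apply, mul_assoc]

theorem eq_or_eq_neg_of_sq {a b : Fˣ} (h : (a : F) ^ 2 = (b : F) ^ 2) : a = b ∨ a = -b := by
  rcases sq_eq_sq_iff_eq_or_eq_neg.1 h with e | e
  · exact Or.inl (Units.ext e)
  · exact Or.inr (Units.ext (by simpa using e))

theorem vec_split (v : V F) :
    v = ((v.1, 0, 0) : V F) + ((0, v.2.1, 0) : V F) + ((0, 0, v.2.2) : V F) := by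
  ext <;> simp

theorem neg_not_mem_sqGrp [Fintype F] (h4 : Fintype.card F % 4 = 3) {a : Fˣ} (ha : a ∈ sqGrp F) :
    -a ∉ sqGrp F := by
  rintro ⟨m, hm⟩
  obtain ⟨k, rfl⟩ := ha
  have h : (m : F) ^ 2 = -(k : F) ^ 2 := by simpa using congrArg Units.val hm
  exact neg_one_nonsquare h4 ⟨(m : F) / k, by
    field_simp
    linear_combination -h⟩

end Maps

variable {F : Type*} [Field F] [Fintype F] {p n : ℕ} {K : Subgroup (Equiv.Perm (V F))}

namespace Setting

variable (S : Setting p n K)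
include S

theorem additive_mem (A : F → F) (hA : ∀ x y, A (x + y) = A x + A y) (σ : F → F)
    (hσ : ∀ x y, σ (x + y) = σ x + σ y) (hσm : ∀ x, σ (x ^ 2) = σ x ^ 2)
    (h : ∀ (l : Fˣ) (x : F), A ((l : F) ^ 2 * x) = σ (l : F) ^ 2 * A x) (x : F) :
    A x = σ x * A 1 := by
  have h0 : σ 0 = 0 := by
    have := hσ 0 0
    rw [add_zero] at this
    exact left_eq_add.1 this
  have A0 : A 0 = 0 := by
    have := hA 0 0
    rw [add_zero] at this
    exact left_eq_add.1 this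
  have key : ∀ a : F, A (a ^ 2) = σ a ^ 2 * A 1 := fun a => by
    rcases eq_or_ne a 0 with rfl | ha
    · simp [h0, A0]
    · simpa using h (Units.mk0 a ha) 1
  obtain ⟨a, b, rfl⟩ := exists_sum_sq S.mod4 x
  rw [hA, key, key, hσ, hσm, hσm, add_mul]

theorem eigen_X {g : Equiv.Perm (V F)} (hg : g ∈ S.Cj) (x : F) :
    g ((0, x, 0) : V F) = ((0, (g (0, x, 0)).2.1, 0) : V F) := by
  obtain ⟨hgK, hgj⟩ := S.mem_Cj.1 hg
  have h1 : jm F (g (0, x, 0)) = -g (0, x, 0) := by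
    rw [← Equiv.Perm.mul_apply, hgj, Equiv.Perm.mul_apply, jm_apply, ← S.map_neg hgK]
    simp
  rw [jm_apply] at h1
  have e1 := congrArg Prod.fst h1
  have e2 := congrArg (fun v : V F => v.2.2) h1
  simp [eq_neg_iff_add_eq_zero, ← two_mul, S.two_ne'] at e1 e2
  ext <;> simp [e1, e2]

theorem conj_order {g : Equiv.Perm (V F)} (hg : g ∈ S.Bs) (b : F) :
    ∃ b', g * Yp b * g⁻¹ = Yp b' := by
  refine S.eq_Yp_of_order (mul_mem (mul_mem hg.1 (S.Y_mem b)) (inv_mem hg.1)) ?_ ?_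
  · rw [conj_pow, S.Yp_pow_p, mul_one, mul_inv_cancel]
  · have hi := (S.mem_Bs.1 (inv_mem hg)).2
    rw [Equiv.Perm.coe_mul, Set.image_comp, hi, Equiv.Perm.coe_mul, Set.image_comp, S.Yp_Z0,
      (S.mem_Bs.1 hg).2]

/-- An element of the stabiliser of both axes fixing the last one pointwise. -/
theorem eq_Sn_of_fix {g : Equiv.Perm (V F)} (hg : g ∈ S.CB)
    (hfix : ∀ u : F, g (0, 0, u) = ((0, 0, u) : V F)) : ∃ t, g = Sn t := by
  have hK := hg.1.1
  have hTm : ∀ l m : Fˣ, g * Tp l * g⁻¹ = Tp m → (m : F) ^ 2 = (l : F) ^ 2 := by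
    intro l m e
    have h1 := DFunLike.congr_fun (mul_inv_eq_iff_eq_mul.1 e) ((0, 0, 1) : V F)
    rw [Equiv.Perm.mul_apply, Equiv.Perm.mul_apply, hfix, Tp_apply, Tp_apply] at h1
    simp only [mul_zero, mul_one] at h1
    rw [hfix] at h1
    exact (congrArg (fun v : V F => v.2.2) h1).symm
  have hcomm : ∀ l : Fˣ, g * Tp l = Tp l * g := by
    have hsq : ∀ k : Fˣ, g * Tp (k * k) = Tp (k * k) * g := fun k => by
      obtain ⟨m, hm⟩ := S.CB_normalizes hg k
      have e : m * m = k * k := Units.ext (by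
        simpa [pow_two] using hTm k m hm)
      rw [← mul_inv_eq_iff_eq_mul]
      calc g * Tp (k * k) * g⁻¹ = g * (Tp k * Tp k) * g⁻¹ := by rw [Tp_mul]
        _ = (g * Tp k * g⁻¹) * (g * Tp k * g⁻¹) := by group
        _ = Tp (k * k) := by rw [hm, Tp_mul, e]
    intro l
    rcases square_or_neg S.mod4 (l : F) with ⟨k, hk⟩ | ⟨k, hk⟩
    · have hk0 : k ≠ 0 := fun e => l.ne_zero (by rw [hk, e, mul_zero])
      have e : l = Units.mk0 k hk0 * Units.mk0 k hk0 := Units.ext (by simpa using hk)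
      rw [e]; exact hsq _
    · have hk0 : k ≠ 0 := fun e => l.ne_zero (neg_eq_zero.1 (by rw [hk, e, mul_zero]))
      have e : l = (-1) * (Units.mk0 k hk0 * Units.mk0 k hk0) := Units.ext (by
        simp [← hk])
      rw [e, ← Tp_mul, ← jm, ← mul_assoc, ← (S.mem_Cj.1 hg.2).2, mul_assoc, hsq, ← mul_assoc]
  set a : F := (g ((0, 1, 0) : V F)).2.1 with hadef
  have hX : ∀ x : F, g ((0, x, 0) : V F) = ((0, a * x, 0) : V F) := by
    intro x
    rcases eq_or_ne x 0 with rfl | hx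
    · rw [show ((0, (0 : F), 0) : V F) = 0 from rfl, S.map_zero hK, mul_zero]; rfl
    · have h1 := DFunLike.congr_fun (hcomm (Units.mk0 x hx)) ((0, 1, 0) : V F)
      rw [Equiv.Perm.mul_apply, Equiv.Perm.mul_apply, S.eigen_X hg.2 1, Tp_apply, Tp_apply] at h1
      simpa [mul_comm] using h1
  have ha : a ≠ 0 := fun e => by
    have h1 := hX 1
    rw [e, zero_mul] at h1
    have h2 : ((0, 1, 0) : V F) = 0 := g.injective (h1.trans (S.map_zero hK).symm)
    simpa using congrArg (fun v : V F => v.2.1) h2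
  have hZ : ∀ z : F, g (zc z) = zc (g (zc z)).1 := fun z => by
    have h1 : g (zc z) ∈ Z0 F := by rw [← S.CB_fix hg]; exact ⟨_, zc_mem z, rfl⟩
    ext <;> simp [mem_Z0.1 h1]
  have hA : ∀ b u : F, (g (zc (b ^ 2 * u))).1 = a ^ 2 * (b ^ 2 * u) := by
    intro b u
    obtain ⟨b', hb'⟩ := S.conj_order hg.1 b
    have h1 := DFunLike.congr_fun (mul_inv_eq_iff_eq_mul.1 hb') ((0, 0, u) : V F)
    rw [Equiv.Perm.mul_apply, Equiv.Perm.mul_apply, hfix, Yp_apply, Yp_apply,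
      vec_split ((0 : F) - 2 * b * 0 + b ^ 2 * u, (0 : F) - b * u, u), S.add _ hK, S.add _ hK] at h1
    simp only [mul_zero, sub_zero, zero_add, zero_sub] at h1
    rw [hfix, hX, show ((b ^ 2 * u, 0, 0) : V F) = zc (b ^ 2 * u) from rfl, hZ] at h1
    have e1 := congrArg Prod.fst h1
    have e2 := congrArg (fun v : V F => v.2.1) h1
    simp at e1 e2
    rcases eq_or_ne u 0 with rfl | hu
    · simpa using e1
    · have hb : b' = a * b := mul_right_cancel₀ hu (by linear_combination -e2)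
      rw [e1, hb]; ring
  refine ⟨Units.mk0 a ha, Equiv.ext fun v => ?_⟩
  conv_lhs => rw [vec_split v, S.add _ hK, S.add _ hK, hfix, hX,
    show ((v.1, 0, 0) : V F) = zc v.1 from rfl, hZ]
  have h2 := hA 1 v.1
  simp only [one_pow, one_mul] at h2
  rw [Sn_apply, h2]
  ext <;> simp

section

variable (hU : Us F ∈ S.Pt)
include hU

theorem Tp_conj_Sn {h : Equiv.Perm (V F)} (hh : h ∈ S.Cj) (h1 : h '' Z0 F = Us F)
    (h2 : h '' Us F = Z0 F) (l : Fˣ) : ∃ t, h * Tp l * h⁻¹ = Sn t := by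
  have hUh : (h⁻¹ : Equiv.Perm (V F)) '' Us F = Z0 F := by
    rw [← h1, ← Set.image_comp, ← Equiv.Perm.coe_mul, inv_mul_cancel]; simp
  have hZh : (h⁻¹ : Equiv.Perm (V F)) '' Z0 F = Us F := by
    rw [← h2, ← Set.image_comp, ← Equiv.Perm.coe_mul, inv_mul_cancel]; simp
  have hK : h * Tp l * h⁻¹ ∈ K := mul_mem (mul_mem hh.1 (S.T_mem l)) (inv_mem hh.1)
  have hB : h * Tp l * h⁻¹ ∈ S.Bs := S.mem_Bs.2 ⟨hK, by
    rw [Equiv.Perm.coe_mul, Set.image_comp, hZh, Equiv.Perm.coe_mul, Set.image_comp, S.Tp_Us, h2]⟩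
  refine S.eq_Sn_of_fix ⟨hB, S.Cj.mul_mem (S.Cj.mul_mem hh (S.Tp_mem_CB l).2) (S.Cj.inv_mem hh)⟩
    fun u => ?_
  have h3 : h⁻¹ ((0, 0, u) : V F) ∈ Z0 F := by rw [← hUh]; exact ⟨_, ⟨u, rfl⟩, rfl⟩
  obtain ⟨c, hc⟩ := h3
  rw [Equiv.Perm.mul_apply, Equiv.Perm.mul_apply, ← hc, Tp_zc, hc, Equiv.Perm.coe_inv,
    Equiv.apply_symm_apply]

theorem Sn_mem_CB (t : Fˣ) : Sn t ∈ S.CB := by
  obtain ⟨h, hh, h1, h2⟩ := S.exists_swap hU
  choose f hf using S.Tp_conj_Sn hU hh h1 h2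
  have hinj : Function.Injective f := fun a b e => by
    have e1 : h * Tp a * h⁻¹ = h * Tp b * h⁻¹ := by rw [hf, hf, e]
    have e2 : Tp a = Tp b := mul_left_cancel (mul_right_cancel e1)
    exact (YT_inj ((Tp_eq_YT a).symm.trans (e2.trans (Tp_eq_YT b)))).2
  obtain ⟨l, rfl⟩ := (Finite.injective_iff_surjective.1 hinj) t
  rw [← hf]
  refine ⟨S.mem_Bs.2 ⟨mul_mem (mul_mem hh.1 (S.T_mem l)) (inv_mem hh.1), ?_⟩,
    S.Cj.mul_mem (S.Cj.mul_mem hh (S.Tp_mem_CB l).2) (S.Cj.inv_mem hh)⟩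
  have hZh : (h⁻¹ : Equiv.Perm (V F)) '' Z0 F = Us F := by
    rw [← h2, ← Set.image_comp, ← Equiv.Perm.coe_mul, inv_mul_cancel]; simp
  rw [Equiv.Perm.coe_mul, Set.image_comp, hZh, Equiv.Perm.coe_mul, Set.image_comp, S.Tp_Us, h2]

theorem CB_eq {g : Equiv.Perm (V F)} (hg : g ∈ S.CB) : ∃ t l, g = Sn t * Tp l := by
  let f : Fˣ × sqGrp F → S.CB := fun u =>
    ⟨Sn u.1 * Tp u.2.1, S.CB.mul_mem (S.Sn_mem_CB hU u.1) (S.Tp_mem_CB u.2.1)⟩
  have hinj : Function.Injective f := by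
    rintro ⟨a, l⟩ ⟨b, m⟩ e
    have e' : Sn a * Tp l.1 = Sn b * Tp m.1 := congrArg Subtype.val e
    have e1 := DFunLike.congr_fun e' ((0, 1, 1) : V F)
    rw [SnTp_apply, SnTp_apply] at e1
    have e2 := congrArg (fun v : V F => v.2.1) e1
    have e3 := congrArg (fun v : V F => v.2.2) e1
    simp only [mul_one] at e2 e3
    rcases eq_or_eq_neg_of_sq e3 with h | h
    · obtain rfl : l = m := Subtype.ext h
      exact Prod.ext (Units.ext (mul_right_cancel₀ l.1.ne_zero e2)) rfl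
    · exact absurd (h ▸ l.2) (neg_not_mem_sqGrp S.mod4 m.2)
  have hcard : Nat.card S.CB ≤ Nat.card (Fˣ × sqGrp F) := by
    rw [S.card_CB hU, Nat.card_prod, Nat.card_units, Nat.card_eq_fintype_card (α := F)]
  obtain ⟨⟨a, l⟩, e⟩ := (hinj.bijective_of_nat_card_le hcard).2 ⟨g, hg⟩
  exact ⟨a, l.1, (congrArg Subtype.val e).symm⟩

theorem h_shape : ∃ h ∈ S.Cj, ∃ α β γ : F, α ≠ 0 ∧ β ≠ 0 ∧ γ ≠ 0 ∧
    (h '' Z0 F = Us F) ∧ ∀ v : V F, h v = (α * v.2.2, β * v.2.1, γ * v.1) := by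
  obtain ⟨h, hh, h1, h2⟩ := S.exists_swap hU
  refine ⟨h, hh, ?_⟩
  have hK := hh.1
  let A : F → F := fun u => (h ((0, 0, u) : V F)).1
  let B : F → F := fun x => (h ((0, x, 0) : V F)).2.1
  let C : F → F := fun z => (h (zc z)).2.2
  have hA : ∀ u, h ((0, 0, u) : V F) = ((A u, 0, 0) : V F) := fun u => by
    have h3 : h ((0, 0, u) : V F) ∈ Z0 F := h2 ▸ ⟨_, ⟨u, rfl⟩, rfl⟩
    ext <;> simp [A, mem_Z0.1 h3]
  have hC : ∀ z, h (zc z) = ((0, 0, C z) : V F) := fun z => by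
    have h3 : h (zc z) ∈ Us F := h1 ▸ ⟨_, zc_mem z, rfl⟩
    ext <;> simp [C, mem_Us.1 h3]
  have hB : ∀ x, h ((0, x, 0) : V F) = ((0, B x, 0) : V F) := S.eigen_X hh
  have hsum : ∀ v : V F, h v = ((A v.2.2, B v.2.1, C v.1) : V F) := fun v => by
    conv_lhs => rw [vec_split v, S.add _ hK, S.add _ hK, hA, hB,
      show ((v.1, 0, 0) : V F) = zc v.1 from rfl, hC]
    ext <;> simp
  have hAadd : ∀ x y, A (x + y) = A x + A y := fun x y => by
    have := congrArg Prod.fst (S.add h hK ((0, 0, x) : V F) ((0, 0, y) : V F))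
    simpa [A] using this
  have hBadd : ∀ x y, B (x + y) = B x + B y := fun x y => by
    have := congrArg (fun v : V F => v.2.1) (S.add h hK ((0, x, 0) : V F) ((0, y, 0) : V F))
    simpa [B] using this
  have hCadd : ∀ x y, C (x + y) = C x + C y := fun x y => by
    have := congrArg (fun v : V F => v.2.2) (S.add h hK (zc x) (zc y))
    simpa [C, zc] using this
  have inj0 : ∀ v : V F, h v = 0 → v = 0 := fun v e => h.injective (e.trans (S.map_zero hK).symm)
  have hB1 : B 1 ≠ 0 := fun e => by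
    simpa using congrArg (fun v : V F => v.2.1) (inj0 ((0, 1, 0) : V F) (by rw [hB, e]; rfl))
  have hA1 : A 1 ≠ 0 := fun e => by
    simpa using congrArg (fun v : V F => v.2.2) (inj0 ((0, 0, 1) : V F) (by rw [hA, e]; rfl))
  have hC1 : C 1 ≠ 0 := fun e => by
    simpa [zc] using congrArg Prod.fst (inj0 (zc 1) (by rw [hC, e]; rfl))
  -- conjugating the torus
  have hT : ∀ l : Fˣ, ∃ f : F, (∀ x, B ((l : F) * x) = f * B x) ∧
      (∀ u, A ((l : F) ^ 2 * u) = f ^ 2 * A u) := fun l => by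
    obtain ⟨t, ht⟩ := S.Tp_conj_Sn hU hh h1 h2 l
    refine ⟨(t : F), fun x => ?_, fun u => ?_⟩
    · have := congrArg (fun v : V F => v.2.1)
        (DFunLike.congr_fun (mul_inv_eq_iff_eq_mul.1 ht) ((0, x, 0) : V F))
      simpa [Equiv.Perm.mul_apply, hsum, Sn_apply, Tp_apply] using this
    · have := congrArg Prod.fst
        (DFunLike.congr_fun (mul_inv_eq_iff_eq_mul.1 ht) ((0, 0, u) : V F))
      simpa [Equiv.Perm.mul_apply, hsum, Sn_apply, Tp_apply] using this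
  let σ : F → F := fun x => B x / B 1
  have hσadd : ∀ x y, σ (x + y) = σ x + σ y := fun x y => by simp [σ, hBadd, add_div]
  have hσ0 : σ 0 = 0 := by
    have := hσadd 0 0
    rw [add_zero] at this
    exact left_eq_add.1 this
  have hσmul : ∀ x y, σ (x * y) = σ x * σ y := fun x y => by
    rcases eq_or_ne x 0 with rfl | hx
    · simp [hσ0]
    · obtain ⟨f, hf, -⟩ := hT (Units.mk0 x hx)
      have e1 := hf 1
      have e2 := hf y
      simp only [Units.val_mk0, mul_one] at e1 e2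
      simp only [σ, e1, e2]
      field_simp
  have hσ1 : σ 1 = 1 := div_self hB1
  have hBσ : ∀ x, B x = σ x * B 1 := fun x => (div_mul_cancel₀ _ hB1).symm
  have hAσ : ∀ u, A u = σ u * A 1 := S.additive_mem A hAadd σ hσadd
    (fun x => by rw [pow_two, pow_two, hσmul]) fun l u => by
      obtain ⟨f, hf, hf'⟩ := hT l
      have e1 := hf 1
      rw [mul_one] at e1
      rw [hf', show σ (l : F) = f by simp only [σ, e1]; field_simp]
  have hCσ : ∀ z, C z = σ z * C 1 := S.additive_mem C hCadd σ hσadd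
    (fun x => by rw [pow_two, pow_two, hσmul]) fun l z => by
      have hm : h * Sn l * h⁻¹ ∈ S.CB := by
        refine ⟨S.mem_Bs.2 ⟨mul_mem (mul_mem hK (S.Sn_mem_CB hU l).1.1) (inv_mem hK), ?_⟩,
          S.Cj.mul_mem (S.Cj.mul_mem hh (S.Sn_mem_CB hU l).2) (S.Cj.inv_mem hh)⟩
        have hZh : (h⁻¹ : Equiv.Perm (V F)) '' Z0 F = Us F := by
          rw [← h2, ← Set.image_comp, ← Equiv.Perm.coe_mul, inv_mul_cancel]; simp
        rw [Equiv.Perm.coe_mul, Set.image_comp, hZh, Equiv.Perm.coe_mul, Set.image_comp,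
          S.CB_Us hU (S.Sn_mem_CB hU l), h2]
      obtain ⟨t, m, htm⟩ := S.CB_eq hU hm
      have key := fun v => DFunLike.congr_fun (mul_inv_eq_iff_eq_mul.1 htm) v
      have k1 := congrArg Prod.fst (key ((0, 0, 1) : V F))
      have k2 := congrArg (fun v : V F => v.2.1) (key ((0, 1, 0) : V F))
      have k3 := congrArg (fun v : V F => v.2.2) (key (zc z))
      simp only [Equiv.Perm.mul_apply, hsum, Sn_apply, Tp_apply, mul_zero, mul_one, zc] at k1 k2 k3
      have ht : (t : F) ^ 2 = 1 := mul_right_cancel₀ hA1 (by rw [one_mul]; exact k1.symm)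
      have hl : σ (l : F) = (t : F) * (m : F) := by
        simp only [σ, k2]; field_simp
      rw [k3, hl, mul_pow, ht, one_mul]
  -- the square is linear
  have hhh : h * h ∈ S.CB := ⟨S.mem_Bs.2 ⟨mul_mem hK hK, by
    rw [Equiv.Perm.coe_mul, Set.image_comp, h1, h2]⟩, S.Cj.mul_mem hh hh⟩
  obtain ⟨t, m, htm⟩ := S.CB_eq hU hhh
  have hlin : ∀ x, σ (σ x) * σ (B 1) * B 1 = (t : F) * (m : F) * x := fun x => by
    have := congrArg (fun v : V F => v.2.1) (DFunLike.congr_fun htm ((0, x, 0) : V F))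
    rw [SnTp_apply, Equiv.Perm.mul_apply, hsum, hsum] at this
    simp only at this
    rw [← hσmul, ← hBσ, ← hBσ x]
    exact this
  let e : F →+* F :=
    { toFun := σ, map_one' := hσ1, map_mul' := hσmul, map_zero' := hσ0, map_add' := hσadd }
  have hbij : Function.Bijective e := ⟨e.injective, Finite.injective_iff_surjective.1 e.injective⟩
  have hid : ∀ x, σ x = x := ringEquiv_eq_refl S.mod4 (RingEquiv.ofBijective e hbij) fun x => by
    have h5 := hlin 1
    rw [hσ1, hσ1, one_mul, mul_one] at h5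
    have h6 := hlin x
    rw [← h5, mul_assoc, mul_comm (σ (σ x))] at h6
    have hne : σ (B 1) * B 1 ≠ 0 := mul_ne_zero (fun e0 => hB1 (e.injective
      (show e (B 1) = e 0 by rw [RingHom.map_zero]; exact e0))) hB1
    exact mul_left_cancel₀ hne h6
  refine ⟨A 1, B 1, C 1, hA1, hB1, hC1, h1, fun v => ?_⟩
  rw [hsum, hAσ, hBσ v.2.1, hCσ, hid, hid, hid, mul_comm _ (A 1), mul_comm _ (B 1),
    mul_comm _ (C 1)]

theorem exists_h : ∃ h ∈ K, ∃ α β : F, α ≠ 0 ∧ β ≠ 0 ∧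
    ∀ v : V F, h v = (α * v.2.2, β * v.2.1, β ^ 2 / α * v.1) := by
  obtain ⟨h, hh, α, β, γ, hα, hβ, hγ, -, hv⟩ := S.h_shape hU
  refine ⟨h, hh.1, α, β, hα, hβ, fun v => ?_⟩
  set P := (Yp (-β / γ) * h * Yp 1 : Equiv.Perm (V F)) '' Us F with hP
  have hmem : P ∈ S.Pt := S.image_mem hU (mul_mem (mul_mem (S.Y_mem _) hh.1) (S.Y_mem 1))
  have hform : ∀ u : F, (Yp (-β / γ) * h * Yp 1 : Equiv.Perm (V F)) ((0, 0, u) : V F) =
      (((α * γ - β ^ 2) / γ * u, 0, γ * u) : V F) := fun u => by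
    simp only [Equiv.Perm.mul_apply, hv, Yp_apply]
    ext <;> simp <;> field_simp <;> ring
  have hfix : jm F '' P = P := by
    have hj : ∀ w ∈ P, jm F w = w := by
      rintro _ ⟨_, ⟨u, rfl⟩, rfl⟩
      rw [hform, jm_apply]; simp
    rw [Set.image_congr hj, Set.image_id']
  have hne : P ≠ Z0 F := fun e0 => by
    have h1 : (((α * γ - β ^ 2) / γ * 1, 0, γ * 1) : V F) ∈ P := ⟨_, ⟨1, rfl⟩, hform 1⟩
    rw [e0] at h1
    simpa [hγ] using congrArg Prod.snd (mem_Z0.1 h1)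
  have hPU : P = Us F := by
    have h1 : P ∈ S.F0 := ⟨hmem, hne, hfix⟩
    rwa [S.F0_eq hU, Set.mem_singleton_iff] at h1
  have h1 : (((α * γ - β ^ 2) / γ * 1, 0, γ * 1) : V F) ∈ P := ⟨_, ⟨1, rfl⟩, hform 1⟩
  rw [hPU] at h1
  have h2 := (mem_Us.1 h1).1
  simp [hγ] at h2
  rw [hv, show β ^ 2 / α = γ by field_simp; linear_combination -h2]

end

end Setting

end Cfsg.Agent.PSp4Local
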