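import Cfsg.Agent.PSp4Local.Points

/-!
Counting: points, stabilisers, the centraliser of the involution.
-/

set_option autoImplicit false
set_option linter.unusedSimpArgs false
set_option linter.style.haveILetI false
set_option linter.unusedSectionVars false
open scoped Pointwise

namespace Cfsg.Agent.PSp4Local

theorem card_eq_mul_of_free {G X : Type*} [Group G] [MulAction G X] [Finite X]
    (h : ∀ x : X, ∀ g : G, g • x = x → g = 1) :
    Nat.card X = Nat.card G * Nat.card (Quotient (MulAction.orbitRel G X)) := by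
  have hs : ∀ x : X, MulAction.stabilizer G x = ⊥ := fun x =>
    (Subgroup.eq_bot_iff_forall _).2 fun g hg => h x g hg
  rw [Nat.card_congr (MulAction.selfEquivOrbitsQuotientProd hs), Nat.card_prod, mul_comm]

variable {F : Type*} [Field F]

/-- The squares in the multiplicative group. -/
def sqGrp (F : Type*) [Field F] : Subgroup Fˣ := (powMonoidHom 2).range

theorem card_sqGrp [Fintype F] (h4 : Fintype.card F % 4 = 3) :
    Nat.card (sqGrp F) * 2 = Fintype.card F - 1 := by
  classical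
  have hker : Nat.card (powMonoidHom 2 : Fˣ →* Fˣ).ker = 2 := by
    have e : ((powMonoidHom 2 : Fˣ →* Fˣ).ker : Set Fˣ) = {1, -1} := by
      ext u
      simp only [SetLike.mem_coe, MonoidHom.mem_ker, powMonoidHom_apply, Set.mem_insert_iff,
        Set.mem_singleton_iff]
      constructor
      · intro h
        have : (u : F) ^ 2 = 1 := by simpa using congrArg Units.val h
        rcases sq_eq_one_iff.1 this with h | h
        · exact Or.inl (Units.ext h)
        · exact Or.inr (Units.ext (by simpa using h))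
      · rintro (rfl | rfl) <;> simp
    have : ((powMonoidHom 2 : Fˣ →* Fˣ).ker : Set Fˣ).ncard = 2 := by
      rw [e, Set.ncard_pair]
      intro h
      have := congrArg Units.val h
      simp at this
      exact two_ne h4 (by linear_combination this)
    rwa [← Nat.card_coe_set_eq] at this
  have h := Subgroup.card_mul_index (powMonoidHom 2 : Fˣ →* Fˣ).ker
  rw [Subgroup.index_ker, hker, Nat.card_units] at h
  rw [sqGrp, ← Nat.card_eq_fintype_card]
  omega

/-- The pointwise stabiliser of the axis. -/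
def C0 (F : Type*) [Field F] : Subgroup (Equiv.Perm (V F)) where
  carrier := {g | ∃ b l, g = Yp b * Tp l}
  one_mem' := ⟨0, 1, by simp [Yp_zero, Tp_one]⟩
  mul_mem' := by
    rintro _ _ ⟨b, l, rfl⟩ ⟨c, m, rfl⟩
    exact ⟨_, _, YT_mul b c l m⟩
  inv_mem' := by
    rintro _ ⟨b, l, rfl⟩
    refine ⟨-(b * (l : F)), l⁻¹, ?_⟩
    refine inv_eq_of_mul_eq_one_right ?_
    rw [YT_mul, mul_inv_cancel, Tp_one, mul_one]
    convert Yp_zero using 2
    simp [mul_assoc]

theorem card_C0 [Fintype F] : Nat.card (C0 F) = Fintype.card F * (Fintype.card F - 1) := by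
  classical
  rw [← Nat.card_eq_of_bijective (fun q : F × Fˣ => (⟨Yp q.1 * Tp q.2, q.1, q.2, rfl⟩ : C0 F))
    ⟨fun a b e => by
      obtain ⟨h1, h2⟩ := YT_inj (congrArg Subtype.val e)
      exact Prod.ext h1 h2, fun ⟨g, b, l, e⟩ => ⟨(b, l), Subtype.ext e.symm⟩⟩,
    Nat.card_prod, Nat.card_units, Nat.card_eq_fintype_card]

theorem C0_fix {g : Equiv.Perm (V F)} (hg : g ∈ C0 F) (c : F) : g (zc c) = zc c := by
  obtain ⟨b, l, rfl⟩ := hg
  simp [Equiv.Perm.mul_apply, Tp_zc, Yp_zc]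

/-- An involution fixing the axis pointwise. -/
theorem C0_invol (h2 : (2 : F) ≠ 0) {g : Equiv.Perm (V F)} (hg : g ∈ C0 F) (hne : g ≠ 1)
    (hsq : g * g = 1) : ∃ c : F, g = Yp (c / 2) * jm F * Yp (-(c / 2)) := by
  obtain ⟨b, l, rfl⟩ := hg
  rw [YT_mul] at hsq
  obtain ⟨hb, hl⟩ := YT_inj (hsq.trans (by simp [Yp_zero, Tp_one] : (1 : Equiv.Perm (V F)) =
    Yp 0 * Tp 1))
  rcases mul_self_eq_one_iff.1 (congrArg Units.val hl) with h | h
  · exfalso
    have hl1 : l = 1 := Units.ext h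
    subst hl1
    simp [← two_mul, h2] at hb
    exact hne (by simp [hb, Yp_zero, Tp_one])
  · have hl1 : l = -1 := Units.ext (by simpa using h)
    subst hl1
    refine ⟨b, ?_⟩
    rw [jm, mul_assoc (Yp (b / 2)), Tp_Yp, ← mul_assoc, Yp_mul]
    congr 2
    simp
    field_simp
    ring

variable [Fintype F] {p n : ℕ} {K : Subgroup (Equiv.Perm (V F))}

namespace Setting

variable (S : Setting p n K)
include S

theorem C0_le : C0 F ≤ K := by
  rintro _ ⟨b, l, rfl⟩
  exact mul_mem (S.Y_mem b) (S.T_mem l)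

/-- The stabiliser of the axis. -/
def Bs (_ : Setting p n K) : Subgroup (Equiv.Perm (V F)) :=
  K ⊓ MulAction.stabilizer (Equiv.Perm (V F)) (Z0 F)

theorem mem_Bs {g : Equiv.Perm (V F)} : g ∈ S.Bs ↔ g ∈ K ∧ g '' Z0 F = Z0 F := Iff.rfl

theorem Bs_le : S.Bs ≤ K := inf_le_left

theorem C0_le_Bs : C0 F ≤ S.Bs := fun g hg =>
  (S.mem_Bs).2 ⟨S.C0_le hg, S.image_Z0 (S.C0_le hg) (c := 1) one_ne_zero (by rw [C0_fix hg]; rfl)⟩

theorem mem_C0_of_fix {g : Equiv.Perm (V F)} (hg : g ∈ K) {c : F} (hc : c ≠ 0)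
    (h : g (zc c) = zc c) : g ∈ C0 F := S.stabZ g hg c hc h

theorem card_K : Nat.card K = S.Pt.ncard * Nat.card S.Bs := by
  have h := MulAction.index_stabilizer K (Z0 F : Set (V F))
  have hset : MulAction.orbit K (Z0 F : Set (V F)) = S.Pt := by
    ext P
    constructor
    · rintro ⟨⟨g, hg⟩, rfl⟩; exact ⟨g, hg, rfl⟩
    · rintro ⟨g, hg, rfl⟩; exact ⟨⟨g, hg⟩, rfl⟩
  rw [hset] at h
  have hc : Nat.card (MulAction.stabilizer K (Z0 F : Set (V F))) = Nat.card S.Bs :=
    Nat.card_congr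
      { toFun := fun g => ⟨g.1.1, g.1.2, g.2⟩
        invFun := fun g => ⟨⟨g.1, g.2.1⟩, g.2.2⟩
        left_inv := fun _ => rfl
        right_inv := fun _ => rfl }
  rw [← Subgroup.card_mul_index (MulAction.stabilizer K (Z0 F : Set (V F))), hc, h, mul_comm]

/-- The points other than the axis. -/
def Rest : Type _ := {P : Set (V F) // P ∈ S.Pt ∧ P ≠ Z0 F}

instance : Finite S.Rest := Subtype.finite

theorem image_ne {P : Set (V F)} (hne : P ≠ Z0 F) {g : Equiv.Perm (V F)}
    (h : g '' Z0 F = Z0 F) : g '' P ≠ Z0 F := fun e =>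
  hne (g.injective.image_injective (e.trans h.symm))

instance yAction : MulAction (Multiplicative F) S.Rest where
  smul b P := ⟨Yp b.toAdd '' P.1, S.image_mem P.2.1 (S.Y_mem _), S.image_ne P.2.2 (S.Yp_Z0 _)⟩
  one_smul P := Subtype.ext (by show Yp _ '' P.1 = P.1; simp [Yp_zero])
  mul_smul b c P := Subtype.ext (by
    show Yp _ '' P.1 = Yp _ '' (Yp _ '' P.1)
    rw [← Set.image_comp, ← Equiv.Perm.coe_mul, Yp_mul]
    rfl)

/-- The number of orbits of the unipotent group on the other points. -/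
noncomputable def kk : ℕ := Nat.card (Quotient (MulAction.orbitRel (Multiplicative F) S.Rest))

theorem card_Rest : Nat.card S.Rest = Fintype.card F * S.kk := by
  rw [card_eq_mul_of_free (G := Multiplicative F) (X := S.Rest) fun P b h => by
    by_contra hb
    refine S.Yp_image_ne P.2.1 P.2.2 (b := b.toAdd) ?_ (congrArg Subtype.val h)
    exact fun e => hb (Multiplicative.toAdd.injective (by rw [e]; rfl))]
  rw [Nat.card_congr Multiplicative.toAdd, Nat.card_eq_fintype_card]
  rfl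

theorem ncard_Pt : S.Pt.ncard = 1 + Fintype.card F * S.kk := by
  rw [← card_Rest]
  have h : S.Pt = insert (Z0 F) {P | P ∈ S.Pt ∧ P ≠ Z0 F} := by
    ext P
    simp only [Set.mem_insert_iff, Set.mem_setOf_eq]
    constructor
    · intro hP; by_cases h : P = Z0 F
      · exact Or.inl h
      · exact Or.inr ⟨hP, h⟩
    · rintro (rfl | h)
      · exact S.Z0_mem
      · exact h.1
  conv_lhs => rw [h]
  rw [Set.ncard_insert_of_notMem (fun h => h.2 rfl) (Set.toFinite _), ← Nat.card_coe_set_eq, add_comm]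
  rfl

/-- The trivial intersection bound for a family of points inside a set of vectors. -/
theorem ti_bound (Ps : Set (Set (V F))) (hPs : Ps ⊆ S.Pt) (W : Set (V F))
    (hW : ∀ P ∈ Ps, P ⊆ W) :
    Ps.ncard * (Fintype.card F - 1) + 1 ≤ W.ncard ∨ Ps = ∅ := by
  rcases Ps.eq_empty_or_nonempty with h | ⟨P0, hP0⟩
  · exact Or.inr h
  left
  classical
  have h0 : (0 : V F) ∈ W := hW _ hP0 (S.zero_mem_pt (hPs hP0))
  let f : Ps × {c : F // c ≠ 0} → {v // v ∈ W \ {0}} := fun u =>
    ⟨(hPs u.1.2).choose (zc u.2.1), hW _ u.1.2 (by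
        conv => arg 1; rw [← (hPs u.1.2).choose_spec.2]
        exact ⟨_, zc_mem _, rfl⟩),
      fun e => u.2.2 (by
        have := (hPs u.1.2).choose.injective
          ((Set.mem_singleton_iff.1 e).trans (S.map_zero (hPs u.1.2).choose_spec.1).symm)
        exact congrArg Prod.fst this)⟩
  have hf : Function.Injective f := by
    rintro ⟨⟨P, hP⟩, c⟩ ⟨⟨Q, hQ⟩, d⟩ e
    have e' := congrArg Subtype.val e
    simp only [f] at e'
    have hne : (hPs hP).choose (zc c.1) ≠ 0 := fun e0 => c.2 (by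
      have := (hPs hP).choose.injective (e0.trans (S.map_zero (hPs hP).choose_spec.1).symm)
      exact congrArg Prod.fst this)
    have hPQ : P = Q := S.pt_eq (hPs hP) (hPs hQ) hne
      (by conv => arg 1; rw [← (hPs hP).choose_spec.2]
          exact ⟨_, zc_mem _, rfl⟩)
      (by rw [e']; conv => arg 1; rw [← (hPs hQ).choose_spec.2]
          exact ⟨_, zc_mem _, rfl⟩)
    subst hPQ
    have := (hPs hP).choose.injective e'
    exact Prod.ext rfl (Subtype.ext (congrArg Prod.fst this))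
  have h1 := Nat.card_le_card_of_injective f hf
  have h2 : Nat.card {v // v ∈ W \ {0}} = (W \ {0}).ncard := Nat.card_coe_set_eq _
  rw [h2, Set.ncard_diff_singleton_of_mem h0, Nat.card_prod, Nat.card_coe_set_eq] at h1
  rw [Nat.card_eq_fintype_card (α := {c : F // c ≠ 0}), Fintype.card_subtype_compl,
    Fintype.card_subtype_eq] at h1
  have h3 : 0 < W.ncard := Set.ncard_pos (Set.toFinite _) |>.2 ⟨0, h0⟩
  omega

theorem kk_le : S.kk ≤ Fintype.card F + 1 := by
  rcases S.ti_bound S.Pt subset_rfl Set.univ (fun _ _ => Set.subset_univ _) with h | h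
  · rw [Set.ncard_univ, Nat.card_prod, Nat.card_prod, Nat.card_eq_fintype_card, S.ncard_Pt] at h
    obtain ⟨m, hm⟩ := Nat.exists_eq_add_of_le' S.card_pos
    rw [hm] at h ⊢
    simp at h
    by_contra hk
    have := Nat.mul_le_mul_left (m + 2) (show m + 4 ≤ S.kk by omega)
    nlinarith
  · exact absurd S.Z0_mem (by rw [h]; simp)

theorem kk_pos : 1 ≤ S.kk := by
  obtain ⟨P, hP, hne⟩ := S.exists_ne_Z0
  by_contra h
  have h0 : Nat.card S.Rest = 0 := by rw [S.card_Rest]; simp [Nat.lt_one_iff.1 (not_le.1 h)]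
  haveI : Nonempty S.Rest := ⟨⟨P, hP, hne⟩⟩
  exact (Nat.card_pos (α := S.Rest)).ne' h0

/-- The other points fixed by the involution. -/
def F0 : Set (Set (V F)) := {P | P ∈ S.Pt ∧ P ≠ Z0 F ∧ jm F '' P = P}

theorem F0_bound : S.F0.ncard ≤ Fintype.card F := by
  have hc : Set.ncard {v : V F | v.2.1 = 0} = Fintype.card F * Fintype.card F := by
    rw [← Nat.card_coe_set_eq, Nat.card_congr
      { toFun := fun v : {v : V F | v.2.1 = 0} => (v.1.1, v.1.2.2)
        invFun := fun w => ⟨(w.1, 0, w.2), rfl⟩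
        left_inv := fun v => Subtype.ext (by ext <;> simp; exact v.2.symm)
        right_inv := fun _ => rfl }, Nat.card_prod, Nat.card_eq_fintype_card]
  rcases S.ti_bound (insert (Z0 F) S.F0) (by
      rintro P (rfl | h)
      · exact S.Z0_mem
      · exact h.1) {v | v.2.1 = 0} (by
      rintro P (rfl | h) v hv
      · simp [mem_Z0.1 hv]
      · exact S.x_zero_of_jm h.1 h.2.2 hv) with h | h
  · rw [hc, Set.ncard_insert_of_notMem (fun h => h.2.1 rfl) (Set.toFinite _)] at h
    obtain ⟨m, hm⟩ := Nat.exists_eq_add_of_le' S.card_pos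
    rw [hm] at h ⊢
    simp at h
    nlinarith
  · exact absurd h (Set.insert_nonempty _ _).ne_empty

theorem F0_le : S.F0.ncard ≤ S.kk := by
  have hq : 0 < Fintype.card F := Fintype.card_pos
  classical
  let f : S.F0 → Quotient (MulAction.orbitRel (Multiplicative F) S.Rest) := fun P =>
    Quotient.mk _ ⟨P.1, P.2.1, P.2.2.1⟩
  have hf : Function.Injective f := by
    rintro ⟨P, hP⟩ ⟨Q, hQ⟩ e
    obtain ⟨b, hb⟩ := Quotient.exact e
    have hb' : Yp b.toAdd '' Q = P := congrArg Subtype.val hb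
    by_cases h0 : b.toAdd = 0
    · simp [h0, Yp_zero] at hb'
      exact Subtype.ext hb'.symm
    exfalso
    have h1 : Yp (-b.toAdd) '' Q = P := by
      calc Yp (-b.toAdd) '' Q = Yp (-b.toAdd) '' (jm F '' Q) := by rw [hQ.2.2]
        _ = jm F '' (Yp b.toAdd '' Q) := by
            rw [← Set.image_comp, ← Set.image_comp, ← Equiv.Perm.coe_mul, ← Equiv.Perm.coe_mul,
              jm, Tp_Yp]
            congr 3
            simp
        _ = P := by rw [hb', hP.2.2]
    have h2 : Yp (b.toAdd + b.toAdd) '' Q = Q := by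
      rw [← Yp_mul, Equiv.Perm.coe_mul, Set.image_comp, hb', ← h1, ← Set.image_comp,
        ← Equiv.Perm.coe_mul, Yp_mul, add_neg_cancel, Yp_zero]
      simp
    exact S.Yp_image_ne hQ.1 hQ.2.1 (by rw [← two_mul]; exact mul_ne_zero S.two_ne' h0) h2
  have := Nat.card_le_card_of_injective f hf
  rwa [Nat.card_coe_set_eq] at this

/-- The centraliser of the involution. -/
def Cj (_ : Setting p n K) : Subgroup (Equiv.Perm (V F)) := K ⊓ Subgroup.centralizer {jm F}

theorem mem_Cj {g : Equiv.Perm (V F)} : g ∈ S.Cj ↔ g ∈ K ∧ jm F * g = g * jm F := by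
  simp [Cj, Subgroup.mem_centralizer_singleton_iff, eq_comm]

theorem exists_Cj_of_fix {P : Set (V F)} (hP : P ∈ S.Pt) (hfix : jm F '' P = P) :
    ∃ h ∈ S.Cj, h '' Z0 F = P := by
  obtain ⟨h, hh, rfl⟩ := hP
  set g := h⁻¹ * jm F * h
  have hg : g ∈ K := mul_mem (mul_mem (inv_mem hh) S.jm_mem) hh
  have hgC : g ∈ C0 F := S.mem_C0_of_fix hg one_ne_zero (by
    simp only [g, Equiv.Perm.mul_apply]
    rw [S.jm_fix_pointwise ⟨h, hh, rfl⟩ hfix ⟨_, zc_mem 1, rfl⟩, Equiv.Perm.coe_inv,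
      Equiv.symm_apply_apply])
  obtain ⟨c, hc⟩ := C0_invol S.two_ne' hgC (fun e => S.jm_ne_one (by
    have : jm F = h * g * h⁻¹ := by simp only [g]; group
    rw [this, e]; group)) (by
    have : g * g = h⁻¹ * (jm F * jm F) * h := by simp only [g]; group
    rw [this, jm_sq]; group)
  refine ⟨h * Yp (c / 2), S.mem_Cj.2 ⟨mul_mem hh (S.Y_mem _), ?_⟩, ?_⟩
  · rw [← Yp_inv] at hc
    have : jm F = h * g * h⁻¹ := by simp only [g]; group
    conv_lhs => rw [this, hc]
    group
  · rw [Equiv.Perm.coe_mul, Set.image_comp, S.Yp_Z0]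

/-- The stabiliser of the axis in the centraliser of the involution. -/
def CB : Subgroup (Equiv.Perm (V F)) := S.Bs ⊓ S.Cj

theorem card_Cj : Nat.card S.Cj = (S.F0.ncard + 1) * Nat.card S.CB := by
  have h := MulAction.index_stabilizer S.Cj (Z0 F : Set (V F))
  have hset : MulAction.orbit S.Cj (Z0 F : Set (V F)) = insert (Z0 F) S.F0 := by
    ext P
    constructor
    · rintro ⟨⟨g, hg⟩, rfl⟩
      show g '' Z0 F ∈ insert (Z0 F) S.F0
      by_cases e : g '' Z0 F = Z0 F
      · exact Or.inl e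
      · refine Or.inr ⟨⟨g, hg.1, rfl⟩, e, ?_⟩
        rw [← Set.image_comp, ← Equiv.Perm.coe_mul, (S.mem_Cj.1 hg).2, Equiv.Perm.coe_mul,
          Set.image_comp, S.jm_Z0]
    · rintro (rfl | hP)
      · exact MulAction.mem_orbit_self _
      · obtain ⟨g, hg, e⟩ := S.exists_Cj_of_fix hP.1 hP.2.2
        exact ⟨⟨g, hg⟩, e⟩
  rw [hset, Set.ncard_insert_of_notMem (fun h => h.2.1 rfl) (Set.toFinite _)] at h
  have hc : Nat.card (MulAction.stabilizer S.Cj (Z0 F : Set (V F))) = Nat.card S.CB :=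
    Nat.card_congr
      { toFun := fun g => ⟨g.1.1, ⟨g.1.2.1, g.2⟩, g.1.2⟩
        invFun := fun g => ⟨⟨g.1, g.2.2⟩, g.2.1.2⟩
        left_inv := fun _ => rfl
        right_inv := fun _ => rfl }
  rw [← Subgroup.card_mul_index (MulAction.stabilizer S.Cj (Z0 F : Set (V F))), hc, h, mul_comm]

theorem card_Bs_CB : Nat.card S.Bs = Fintype.card F * Nat.card S.CB := by
  have hbij : Function.Bijective (fun u : F × S.CB =>
      (⟨Yp u.1 * u.2.1, mul_mem (S.C0_le_Bs ⟨u.1, 1, Yp_eq_YT _⟩) u.2.2.1⟩ : S.Bs)) := by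
    constructor
    · rintro ⟨b, d⟩ ⟨c, e⟩ heq
      have h1 : Yp b * d.1 = Yp c * e.1 := congrArg Subtype.val heq
      have h2 : Yp (-c + b) ∈ S.Cj := by
        have : Yp (-c + b) = e.1 * d.1⁻¹ := by
          rw [← Yp_mul, ← Yp_inv, eq_mul_inv_iff_mul_eq, mul_assoc, h1, ← mul_assoc,
            inv_mul_cancel, one_mul]
        rw [this]; exact S.Cj.mul_mem e.2.2 (S.Cj.inv_mem d.2.2)
      have h3 := (S.mem_Cj.1 h2).2
      rw [jm, Tp_Yp] at h3
      obtain ⟨h4, -⟩ := YT_inj h3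
      simp at h4
      have hbc : b = c := by
        have : (2 : F) * (b - c) = 0 := by linear_combination -h4
        exact sub_eq_zero.1 ((mul_eq_zero.1 this).resolve_left S.two_ne')
      subst hbc
      exact Prod.ext rfl (Subtype.ext (mul_left_cancel h1))
    · rintro ⟨g, hg⟩
      have hg' : g * jm F * g⁻¹ ∈ C0 F := S.mem_C0_of_fix
        (mul_mem (mul_mem hg.1 S.jm_mem) (inv_mem hg.1)) one_ne_zero (by
          have h1 : g⁻¹ (zc 1) ∈ Z0 F := by
            have := (S.mem_Bs.1 (inv_mem hg)).2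
            rw [← this]; exact ⟨_, zc_mem 1, rfl⟩
          simp only [Equiv.Perm.mul_apply]
          rw [S.jm_fix_pointwise S.Z0_mem S.jm_Z0 h1, Equiv.Perm.coe_inv, Equiv.apply_symm_apply])
      obtain ⟨c, hc⟩ := C0_invol S.two_ne' hg' (fun e => S.jm_ne_one (by
          have : jm F = g⁻¹ * (g * jm F * g⁻¹) * g := by group
          rw [this, e]; group)) (by
        rw [show g * jm F * g⁻¹ * (g * jm F * g⁻¹) = g * (jm F * jm F) * g⁻¹ by group, jm_sq]
        group)
      have hd : (Yp (c / 2))⁻¹ * g ∈ S.CB := by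
        refine ⟨S.Bs.mul_mem (S.Bs.inv_mem (S.C0_le_Bs ⟨_, 1, Yp_eq_YT _⟩)) hg,
          S.mem_Cj.2 ⟨mul_mem (inv_mem (S.Y_mem _)) hg.1, ?_⟩⟩
        rw [← Yp_inv] at hc
        have h5 : g * jm F = Yp (c / 2) * jm F * (Yp (c / 2))⁻¹ * g := by
          rw [← hc]; group
        rw [mul_assoc (Yp (c / 2))⁻¹ g, h5]; group
      exact ⟨(c / 2, ⟨_, hd⟩), Subtype.ext (mul_inv_cancel_left _ _)⟩
  rw [← Nat.card_eq_of_bijective _ hbij, Nat.card_prod, Nat.card_eq_fintype_card]

theorem F0_dvd : S.F0.ncard + 1 ∣ (1 + Fintype.card F * S.kk) * Fintype.card F := by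
  have h1 : Nat.card S.Cj ∣ Nat.card K := Subgroup.card_dvd_of_le inf_le_left
  rw [S.card_Cj, S.card_K, S.card_Bs_CB, S.ncard_Pt, ← mul_assoc] at h1
  exact Nat.dvd_of_mul_dvd_mul_right Nat.card_pos h1

/-- No element of order `p` centralises the involution. -/
theorem not_dvd_Cj : ¬ p ∣ Nat.card S.Cj := by
  intro hd
  classical
  haveI := Fact.mk S.hp
  obtain ⟨⟨g, hgC⟩, hg⟩ := exists_prime_orderOf_dvd_card' p hd
  have hgp : g ^ p = 1 := by
    have := pow_orderOf_eq_one (⟨g, hgC⟩ : S.Cj)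
    rw [hg] at this
    simpa using congrArg Subtype.val this
  have hg1 : g ≠ 1 := fun e => by
    have : (⟨g, hgC⟩ : S.Cj) = 1 := Subtype.ext e
    rw [this, orderOf_one] at hg
    exact S.hp.one_lt.ne hg
  obtain ⟨hgK, hgj⟩ := S.mem_Cj.1 hgC
  let σ : Equiv.Perm S.Pt :=
    { toFun := fun P => ⟨g '' P.1, S.image_mem P.2 hgK⟩
      invFun := fun P => ⟨(g⁻¹ : Equiv.Perm (V F)) '' P.1, S.image_mem P.2 (inv_mem hgK)⟩
      left_inv := fun P => Subtype.ext (by simp [← Set.image_comp])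
      right_inv := fun P => Subtype.ext (by simp [← Set.image_comp]) }
  have hσ : σ ^ p ^ 1 = 1 := by
    rw [pow_one]
    have : ∀ (i : ℕ) (P : S.Pt), ((σ ^ i) P).1 = (g ^ i) '' P.1 := by
      intro i
      induction i with
      | zero => simp
      | succ i ih =>
        intro P
        rw [pow_succ, Equiv.Perm.mul_apply, ih]
        show (g ^ i) '' (g '' P.1) = _
        rw [← Set.image_comp, ← Equiv.Perm.coe_mul, ← pow_succ]
    refine Equiv.ext fun P => Subtype.ext ?_
    rw [this, hgp]; simp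
  have hcard : ¬ p ∣ Fintype.card S.Pt := by
    rw [← Nat.card_eq_fintype_card, Nat.card_coe_set_eq, S.ncard_Pt]
    intro h
    have h2 := Dvd.dvd.mul_right S.p_dvd_card S.kk
    rw [add_comm] at h
    exact S.hp.one_lt.ne' (Nat.dvd_one.1 ((Nat.dvd_add_right h2).1 h))
  obtain ⟨⟨P, hP⟩, hfix⟩ := Equiv.Perm.exists_fixed_point_of_prime hcard hσ
  have hgP : g '' P = P := congrArg Subtype.val hfix
  obtain ⟨h, hh, rfl⟩ := hP
  have hcp : (h⁻¹ * g * h) ^ p = 1 := by
    have := conj_pow (a := h⁻¹) (b := g) (i := p)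
    rw [inv_inv] at this
    rw [this, hgp, mul_one, inv_mul_cancel]
  obtain ⟨b, l, e⟩ := S.fix_of_order (mul_mem (mul_mem (inv_mem hh) hgK) hh) hcp (S.conj_stab rfl hgP)
  have hl : l = 1 := by
    rw [e] at hcp
    obtain ⟨c, hc⟩ := YT_pow b l p
    rw [hc] at hcp
    obtain ⟨-, hlp⟩ := YT_inj (hcp.trans (by simp [Yp_zero, Tp_one] : (1 : Equiv.Perm (V F)) =
      Yp 0 * Tp 1))
    haveI := S.charP
    haveI := ExpChar.prime (R := F) S.hp
    have : (l : F) ^ p = 1 := by simpa using congrArg Units.val hlp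
    exact Units.ext (frobenius_inj F p (by simpa [frobenius_def] using this))
  subst hl
  rw [Tp_one, mul_one] at e
  have hb : b ≠ 0 := fun hb => hg1 (by
    rw [hb, Yp_zero] at e
    have : g = h * (h⁻¹ * g * h) * h⁻¹ := by group
    rw [this, e]; group)
  -- the involution fixes the only fixed point
  have hjP : jm F '' (h '' Z0 F) = h '' Z0 F := by
    by_contra hne
    have hQ := S.image_mem (S.image_mem ⟨h, hh, rfl⟩ S.jm_mem) (inv_mem hh)
    have hgj' : g '' (jm F '' (h '' Z0 F)) = jm F '' (h '' Z0 F) := by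
      rw [← Set.image_comp, ← Equiv.Perm.coe_mul, ← hgj, Equiv.Perm.coe_mul, Set.image_comp, hgP]
    refine S.Yp_image_ne hQ (fun e0 => hne ?_) hb ?_
    · calc jm F '' (h '' Z0 F) = h '' ((h⁻¹ : Equiv.Perm (V F)) '' (jm F '' (h '' Z0 F))) := by
            rw [← Set.image_comp h, ← Equiv.Perm.coe_mul, mul_inv_cancel]; simp
        _ = _ := by rw [e0]
    · rw [← e, Equiv.Perm.coe_mul, Set.image_comp, Equiv.Perm.coe_mul, Set.image_comp]
      rw [← Set.image_comp h, ← Equiv.Perm.coe_mul, mul_inv_cancel, Equiv.Perm.coe_one, Set.image_id, hgj']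
  have hjC : h⁻¹ * jm F * h ∈ C0 F :=
    S.mem_C0_of_fix (mul_mem (mul_mem (inv_mem hh) S.jm_mem) hh) one_ne_zero (by
      simp only [Equiv.Perm.mul_apply]
      rw [S.jm_fix_pointwise ⟨h, hh, rfl⟩ hjP ⟨_, zc_mem 1, rfl⟩, Equiv.Perm.coe_inv,
        Equiv.symm_apply_apply])
  obtain ⟨d, m, hd⟩ := hjC
  have hcomm : Yp b * (Yp d * Tp m) = Yp d * Tp m * Yp b := by
    rw [← hd, ← e]
    have h1 : h⁻¹ * g * h * (h⁻¹ * jm F * h) = h⁻¹ * (g * jm F) * h := by group
    have h2 : h⁻¹ * jm F * h * (h⁻¹ * g * h) = h⁻¹ * (jm F * g) * h := by group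
    rw [h1, h2, hgj]
  rw [← mul_assoc, Yp_mul, mul_assoc (Yp d), Tp_Yp, ← mul_assoc, Yp_mul] at hcomm
  obtain ⟨hm, -⟩ := YT_inj hcomm
  have hm1 : m = 1 := by
    have : b * (1 - ((m⁻¹ : Fˣ) : F)) = 0 := by linear_combination hm
    have h6 := sub_eq_zero.1 ((mul_eq_zero.1 this).resolve_left hb)
    have h7 : m⁻¹ = 1 := Units.ext h6.symm
    simpa using h7
  subst hm1
  rw [Tp_one, mul_one] at hd
  have hd2 : Yp (d + d) = 1 := by
    rw [← Yp_mul, ← hd, show h⁻¹ * jm F * h * (h⁻¹ * jm F * h) = h⁻¹ * (jm F * jm F) * h by group,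
      jm_sq]
    group
  have hd0 : d = 0 := by
    have := (YT_inj ((Yp_eq_YT _).symm.trans (hd2.trans (by simp [Yp_zero, Tp_one] :
      (1 : Equiv.Perm (V F)) = Yp 0 * Tp 1)))).1
    rw [← two_mul] at this
    exact (mul_eq_zero.1 this).resolve_left S.two_ne'
  refine S.jm_ne_one ?_
  rw [hd0, Yp_zero] at hd
  have : jm F = h * (h⁻¹ * jm F * h) * h⁻¹ := by group
  rw [this, hd]; group

theorem not_dvd_F0 : ¬ p ∣ S.F0.ncard + 1 := fun h =>
  S.not_dvd_Cj (h.trans (S.card_Cj ▸ dvd_mul_right _ _))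

end Setting

end Cfsg.Agent.PSp4Local
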