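import Cfsg.Agent.PSp4Local.Psi

/-!
The linear group problem solved.
-/

set_option autoImplicit false
set_option linter.unusedSimpArgs false
set_option linter.style.haveILetI false
set_option linter.unusedSectionVars false
open scoped Pointwise

namespace Cfsg.Agent.PSp4Local

variable {F : Type*} [Field F] [Fintype F] {p n : ℕ} {K : Subgroup (Equiv.Perm (V F))}

/-- The change of coordinates used when the field has three elements. -/
def shift (a : F) : Equiv.Perm (V F) where
  toFun v := (v.1 - a * v.2.2, v.2)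
  invFun v := (v.1 + a * v.2.2, v.2)
  left_inv v := by ext <;> simp
  right_inv v := by ext <;> simp

theorem shift_apply (a : F) (v : V F) : shift a v = (v.1 - a * v.2.2, v.2) := rfl

theorem shift_inv_apply (a : F) (v : V F) : (shift a)⁻¹ v = (v.1 + a * v.2.2, v.2) := rfl

namespace Setting

variable (S : Setting p n K)
include S

theorem shifted (h3 : Fintype.card F = 3) (a : F) :
    Setting p n (K.map (MulAut.conj (shift a)).toMonoidHom) where
  hp := S.hp
  hp2 := S.hp2
  hn := S.hn
  card := S.card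
  mod4 := S.mod4
  add := by
    rintro _ ⟨g, hg, rfl⟩ v w
    have h1 : (shift a)⁻¹ (v + w) = (shift a)⁻¹ v + (shift a)⁻¹ w := by
      simp only [shift_inv_apply]; ext <;> simp <;> ring
    simp only [MulEquiv.coe_toMonoidHom, MulAut.conj_apply, Equiv.Perm.mul_apply]
    rw [h1, S.add g hg]
    simp only [shift_apply]; ext <;> simp <;> ring
  Y_mem b := ⟨Yp b, S.Y_mem b, by
    simp only [MulEquiv.coe_toMonoidHom, MulAut.conj_apply]
    refine mul_inv_eq_iff_eq_mul.2 (Equiv.ext fun v => ?_)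
    simp only [Equiv.Perm.mul_apply, shift_apply, Yp_apply]
    ext <;> simp; ring⟩
  T_mem l := ⟨Tp l, S.T_mem l, by
    simp only [MulEquiv.coe_toMonoidHom, MulAut.conj_apply]
    refine mul_inv_eq_iff_eq_mul.2 (Equiv.ext fun v => ?_)
    have hl : (l : F) ^ 2 = 1 := by
      have := FiniteField.pow_card_sub_one_eq_one (l : F) l.ne_zero
      rwa [h3] at this
    simp only [Equiv.Perm.mul_apply, shift_apply, Tp_apply, hl]
    ext <;> simp⟩
  stabZ := by
    rintro _ ⟨g, hg, rfl⟩ c hc h
    simp only [MulEquiv.coe_toMonoidHom, MulAut.conj_apply, Equiv.Perm.mul_apply] at h ⊢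
    rw [show (shift a)⁻¹ (zc c) = zc c by simp [shift_inv_apply, zc]] at h
    have h' : g (zc c) = zc c := (shift a).injective (h.trans (by simp [shift_apply, zc]))
    obtain ⟨b, l, e⟩ := S.stabZ g hg c hc h'
    refine ⟨b, l, ?_⟩
    rw [e]
    refine mul_inv_eq_iff_eq_mul.2 (Equiv.ext fun v => ?_)
    have hl : (l : F) ^ 2 = 1 := by
      have := FiniteField.pow_card_sub_one_eq_one (l : F) l.ne_zero
      rwa [h3] at this
    simp only [Equiv.Perm.mul_apply, shift_apply, Tp_apply, Yp_apply, hl]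
    ext <;> simp; ring
  ti := by
    rintro _ ⟨g, hg, rfl⟩ c d hc h
    simp only [MulEquiv.coe_toMonoidHom, MulAut.conj_apply, Equiv.Perm.mul_apply, shift_apply] at h ⊢
    rw [show (shift a)⁻¹ (zc c) = zc c by simp [shift_inv_apply, zc]] at h
    rw [show (shift a)⁻¹ (zc d) = zc d by simp [shift_inv_apply, zc]]
    exact S.ti g hg c d hc h
  move := by
    obtain ⟨g, hg, h⟩ := S.move
    refine ⟨_, ⟨g, hg, rfl⟩, ?_⟩
    simp only [MulEquiv.coe_toMonoidHom, MulAut.conj_apply, Equiv.Perm.mul_apply, shift_apply]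
    rwa [show (shift a)⁻¹ (zc 1) = zc 1 by simp [shift_inv_apply, zc]]
  notTrans := by
    obtain ⟨c0, c1, h0, h1, h⟩ := S.notTrans
    refine ⟨c0, c1, h0, h1, ?_⟩
    rintro _ ⟨g, hg, rfl⟩ e
    simp only [MulEquiv.coe_toMonoidHom, MulAut.conj_apply, Equiv.Perm.mul_apply] at e
    rw [show (shift a)⁻¹ (zc c0) = zc c0 by simp [shift_inv_apply, zc]] at e
    exact h g hg ((shift a).injective (e.trans (by simp [shift_apply, zc])))

theorem exists_Us (h3 : Fintype.card F = 3) : ∃ a : F, Us F ∈ (S.shifted h3 a).Pt := by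
  obtain ⟨P, hP⟩ := (Set.ncard_pos (Set.toFinite _)).1 (Nat.pos_of_ne_zero S.F0_ne_zero)
  obtain ⟨g, hg, hgP⟩ := hP.1
  set v := g (zc 1) with hvdef
  have hvP : v ∈ P := hgP ▸ ⟨_, zc_mem 1, rfl⟩
  have hv0 : v ≠ 0 := fun e => by
    have := g.injective (e.trans (S.map_zero hg).symm)
    simp [zc] at this
  have hx := S.x_zero_of_jm hP.1 hP.2.2 hvP
  have hu : v.2.2 ≠ 0 := fun e => hv0 (S.ne_Z0_mem hP.1 hP.2.1 hvP (Prod.ext hx e))
  refine ⟨v.1 / v.2.2, ?_⟩
  set a := v.1 / v.2.2 with hadef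
  have hQ : shift a '' P ∈ (S.shifted h3 a).Pt := by
    refine ⟨_, ⟨g, hg, rfl⟩, ?_⟩
    simp only [MulEquiv.coe_toMonoidHom, MulAut.conj_apply, Equiv.Perm.coe_mul, Set.image_comp]
    rw [← hgP]
    congr 2
    rw [Set.image_congr (g := id) ?_, Set.image_id]
    rintro _ ⟨c, rfl⟩
    simp [shift_inv_apply, zc]
  have hmem : ((0, 0, v.2.2) : V F) ∈ shift a '' P := ⟨v, hvP, by
    rw [shift_apply, hadef, div_mul_cancel₀ _ hu, sub_self]
    exact Prod.ext rfl (Prod.ext hx rfl)⟩
  have hsub : Us F ⊆ shift a '' P := by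
    rintro _ ⟨u, rfl⟩
    have h0 := (S.shifted h3 a).zero_mem_pt hQ
    have hneg := (S.shifted h3 a).sub_mem_pt hQ h0 hmem
    set r := u / v.2.2
    have hr : r * v.2.2 = u := div_mul_cancel₀ _ hu
    rcases eq_or_ne r 0 with h | h
    · rw [h, zero_mul] at hr; subst hr; exact h0
    · have h2 : r ^ 2 = 1 := by
        have := FiniteField.pow_card_sub_one_eq_one r h
        rwa [h3] at this
      rcases sq_eq_one_iff.1 h2 with h | h
      · rw [h, one_mul] at hr; subst hr; exact hmem
      · rw [h, neg_one_mul] at hr; subst hr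
        simpa using hneg
  have he : Us F = shift a '' P := Set.eq_of_subset_of_ncard_le hsub (by
    rw [(S.shifted h3 a).ncard_pt hQ, Us,
      Set.ncard_range_of_injective (fun a b e => by simpa using e), Nat.card_eq_fintype_card])
    (Set.toFinite _)
  rw [he]; exact hQ

/-- The group is `PGL₂(q)` times a cyclic group of order `(q - 1) / 2`. -/
theorem iso : Nonempty (K ≃* (Matrix.ProjGenLinGroup (Fin 2) F ×
    Multiplicative (ZMod ((p ^ n - 1) / 2)))) := by
  by_cases h3 : Fintype.card F = 3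
  · obtain ⟨a, ha⟩ := S.exists_Us h3
    obtain ⟨e⟩ := (S.shifted h3 a).iso_of_mem ha
    exact ⟨(K.equivMapOfInjective _ (MulEquiv.injective _)).trans e⟩
  · refine S.iso_of_mem (Classical.byContradiction fun hU => S.F0_ne_zero ?_)
    exact S.F0_zero_of_none (by have := S.mod4; omega) hU

end Setting

end Cfsg.Agent.PSp4Local
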