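import Cfsg.Agent.PSp4Local.StModel
import Cfsg.Agent.PSp4Local.MainLin
import Cfsg.Agent.Core.Gaschutz

/-!
The local subgroup: the normaliser of the elementary abelian subgroup of order `q ^ 3` induces on
it a group satisfying the hypotheses of the linear problem, and splits over it.
-/

set_option autoImplicit false
set_option linter.unusedSimpArgs false
set_option linter.style.haveILetI false
set_option linter.unusedSectionVars false
open scoped MatrixGroups Pointwise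

namespace Cfsg.Agent.PSp4Local

variable {G : Type*} [Group G] [Finite G] {F : Type*} [Field F] [Fintype F] {p n : ℕ}

/-- The data of the local problem. -/
structure Loc [Fact p.Prime] (n : ℕ) (κ : St F →* G) (α : G) (P : Sylow p G) (M : Subgroup G) :
    Prop where
  hp2 : p ≠ 2
  hn : 1 ≤ n
  card : Fintype.card F = p ^ n
  mod4 : Fintype.card F % 4 = 3
  inj : Function.Injective κ
  range : κ.range = Subgroup.centralizer ({α} : Set G)
  img : (U4 F).map κ = (P : Subgroup G)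
  le : M ≤ (P : Subgroup G)
  comm : ∀ a ∈ M, ∀ b ∈ M, a * b = b * a
  cardM : Nat.card M = p ^ (3 * n)
  hb : ∀ z ∈ Subgroup.centralizer ({α} : Set G), z ≠ 1 →
    (∀ c ∈ Subgroup.centralizer ({α} : Set G), c * z = z * c) →
    Subgroup.centralizer ({z} : Set G) = Subgroup.centralizer ({α} : Set G)
  hc : ∃ (u v : G) (Pu Pv : Sylow p G), orderOf u = p ∧ orderOf v = p ∧
    u ∈ (Pu : Subgroup G) ∧ (∀ y ∈ (Pu : Subgroup G), y * u = u * y) ∧
    v ∈ (Pv : Subgroup G) ∧ (∀ y ∈ (Pv : Subgroup G), y * v = v * y) ∧ ∀ g : G, g * u * g⁻¹ ≠ v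
  hnc : ∃ Q R : Sylow p ↥(Subgroup.normalizer (M : Set G)), Q ≠ R

namespace Loc

/-- The parametrisation of the abelian subgroup. -/
def emb (κ : St F →* G) (v : V F) : G := κ (hl v.2.1 0 v.1 (uu v.2.2))

/-- The unipotent element outside the abelian subgroup. -/
def ye (κ : St F →* G) (b : F) : G := κ (hl 0 b 0 1)

/-- The torus element. -/
def te (κ : St F →* G) (l : Fˣ) : G := κ (hl 0 0 0 (dd l))

variable {κ : St F →* G}

theorem emb_add (v w : V F) : emb κ (v + w) = emb κ v * emb κ w := by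
  rw [emb, emb, emb, ← map_mul, hl_mul, uu_mul]
  congr 2 <;> simp [uu_val]

theorem emb_zero : emb κ (0 : V F) = 1 := by
  simp [emb, uu_zero, hl_one]

theorem ye_add (b c : F) : ye κ (b + c) = ye κ b * ye κ c := by
  rw [ye, ye, ye, ← map_mul, hl_mul]
  congr 2 <;> simp

theorem ye_zero : ye κ (0 : F) = 1 := by simp [ye, hl_one]

theorem te_one : te κ (1 : Fˣ) = 1 := by
  have : dd (1 : Fˣ) = (1 : SL(2, F)) := Subtype.ext (by
    rw [dd_val, Matrix.SpecialLinearGroup.coe_one]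
    ext i j; fin_cases i <;> fin_cases j <;> simp)
  simp [te, this, hl_one]

theorem ye_emb (b : F) (v : V F) : ye κ b * emb κ v = emb κ (Yp b v) * ye κ b := by
  rw [ye, emb, emb, ← map_mul, ← map_mul, hl_mul, hl_mul, Yp_apply]
  congr 2 <;> simp [uu_val] <;> ring

theorem te_emb (l : Fˣ) (v : V F) : te κ l * emb κ v = emb κ (Tp l v) * te κ l := by
  rw [te, emb, emb, ← map_mul, ← map_mul, hl_mul, hl_mul, Tp_apply]
  have e : dd l * uu v.2.2 = uu ((l : F) ^ 2 * v.2.2) * dd l := Subtype.ext (by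
    rw [Matrix.SpecialLinearGroup.coe_mul, Matrix.SpecialLinearGroup.coe_mul, dd_val, uu_val,
      uu_val]
    ext i j
    fin_cases i <;> fin_cases j <;>
      simp [Matrix.mul_apply, Fin.sum_univ_two] <;> field_simp)
  rw [e]
  congr 2 <;> simp [uu_val, dd_val]

/-- The unipotent subgroup outside the abelian subgroup. -/
def Yg (κ : St F →* G) : Subgroup G where
  carrier := Set.range (ye κ)
  one_mem' := ⟨0, ye_zero⟩
  mul_mem' := by
    rintro _ _ ⟨b, rfl⟩ ⟨c, rfl⟩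
    exact ⟨b + c, ye_add b c⟩
  inv_mem' := by
    rintro _ ⟨b, rfl⟩
    exact ⟨-b, eq_inv_of_mul_eq_one_right (by rw [← ye_add, add_neg_cancel, ye_zero])⟩

variable [Fact p.Prime] {α : G} {P : Sylow p G} {M : Subgroup G} (L : Loc n κ α P M)
include L

theorem two_ne' : (2 : F) ≠ 0 := two_ne L.mod4

theorem emb_inj : Function.Injective (emb κ) := fun v w e => by
  obtain ⟨h1, -, h3, h4⟩ := hl_inj (L.inj e)
  exact Prod.ext h3 (Prod.ext h1 (uu_inj h4))

theorem mem_P {g : G} : g ∈ (P : Subgroup G) ↔ ∃ v b, g = emb κ v * ye κ b := by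
  rw [← L.img, Subgroup.mem_map]
  constructor
  · rintro ⟨_, ⟨a, b, c, d, rfl⟩, rfl⟩
    refine ⟨(c - (a - d * b) * b, a - d * b, d), b, ?_⟩
    rw [emb, ye, ← map_mul, hl_mul]
    congr 2 <;> simp [uu_val]
  · rintro ⟨v, b, rfl⟩
    rw [emb, ye, ← map_mul]
    exact ⟨_, (U4 F).mul_mem ⟨_, _, _, _, rfl⟩ ⟨0, b, 0, 0, by rw [uu_zero]⟩, rfl⟩

theorem mem_M {g : G} : g ∈ M ↔ ∃ v, g = emb κ v := by
  classical
  have hb0 : ∀ a b c d, κ (hl a b c (uu d)) ∈ M → b = 0 := by
    intro a b c d hm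
    by_contra hb
    have hex : ∀ m : M, ∃ a' b' c' d', m.1 = κ (hl a' b' c' (uu d')) := fun m => by
      have := L.le m.2
      rw [← L.img] at this
      obtain ⟨_, ⟨a', b', c', d', rfl⟩, e⟩ := this
      exact ⟨a', b', c', d', e.symm⟩
    choose fa fb fc fd hf using hex
    have hinj : Function.Injective (fun m : M => (fb m, fc m)) := by
      intro m m' e
      have e1 : fb m = fb m' := congrArg Prod.fst e
      have e2 : fc m = fc m' := congrArg Prod.snd e
      have key : ∀ k : M, d * fb k = fd k * b ∧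
          2 * (a * fb k - b * fa k) = b * fb k * (d - fd k) := fun k => U4_comm (L.inj (by
        rw [map_mul, map_mul, ← hf]
        exact L.comm _ hm _ k.2))
      obtain ⟨k1, k2⟩ := key m
      obtain ⟨k1', k2'⟩ := key m'
      rw [e1] at k1 k2
      have hd : fd m = fd m' := mul_right_cancel₀ hb (k1.symm.trans k1')
      rw [hd] at k2
      have ha : fa m = fa m' := by
        have h3 : (2 * b) * fa m = (2 * b) * fa m' := by linear_combination k2' - k2
        exact mul_left_cancel₀ (mul_ne_zero L.two_ne' hb) h3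
      exact Subtype.ext (by rw [hf, hf, ha, e1, e2, hd])
    have h := Nat.card_le_card_of_injective _ hinj
    rw [L.cardM, Nat.card_prod, Nat.card_eq_fintype_card, L.card, pow_mul'] at h
    have hq : 1 < p ^ n := L.card ▸ Fintype.one_lt_card
    generalize p ^ n = q at h hq
    have := Nat.mul_le_mul_left (q * q) hq
    rw [pow_three] at h
    nlinarith
  have hsub : (M : Set G) ⊆ Set.range (emb κ) := by
    intro g hg
    have := L.le hg
    rw [← L.img] at this
    obtain ⟨_, ⟨a, b, c, d, rfl⟩, rfl⟩ := this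
    obtain rfl : b = 0 := hb0 _ _ _ _ hg
    exact ⟨(c, a, d), rfl⟩
  have heq : (M : Set G) = Set.range (emb κ) := by
    refine Set.eq_of_subset_of_ncard_le hsub ?_ (Set.toFinite _)
    rw [← Nat.card_coe_set_eq (s := (M : Set G)), Set.ncard_range_of_injective L.emb_inj]
    change _ ≤ Nat.card M
    rw [L.cardM, Nat.card_prod, Nat.card_prod, Nat.card_eq_fintype_card, L.card, pow_mul', pow_three]
  rw [← SetLike.mem_coe, heq]
  exact ⟨fun ⟨v, hv⟩ => ⟨v, hv.symm⟩, fun ⟨v, hv⟩ => ⟨v, hv.symm⟩⟩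

theorem mem_norm {g : G} (h : ∀ v, ∃ w, g * emb κ v = emb κ w * g) :
    g ∈ Subgroup.normalizer (M : Set G) := by
  choose f hf using h
  have hinj : Function.Injective f := fun a b e => L.emb_inj (mul_left_cancel
    ((hf a).trans ((congrArg (fun x => emb κ x * g) e).trans (hf b).symm)))
  rw [Subgroup.mem_normalizer_iff]
  intro m
  constructor
  · intro hm
    obtain ⟨v, rfl⟩ := L.mem_M.1 hm
    exact L.mem_M.2 ⟨f v, by rw [hf, mul_inv_cancel_right]⟩
  · intro hm
    obtain ⟨w, hw⟩ := L.mem_M.1 hm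
    obtain ⟨v, rfl⟩ := (Finite.injective_iff_surjective.1 hinj) w
    refine L.mem_M.2 ⟨v, mul_left_cancel (?_ : g * m = g * emb κ v)⟩
    rw [hf, ← hw, inv_mul_cancel_right]

theorem emb_mem (v : V F) : emb κ v ∈ Subgroup.normalizer (M : Set G) :=
  L.mem_norm fun w => ⟨w, by rw [← emb_add, ← emb_add, add_comm]⟩

theorem ye_mem (b : F) : ye κ b ∈ Subgroup.normalizer (M : Set G) :=
  L.mem_norm fun v => ⟨_, ye_emb b v⟩

theorem te_mem (l : Fˣ) : te κ l ∈ Subgroup.normalizer (M : Set G) :=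
  L.mem_norm fun v => ⟨_, te_emb l v⟩

theorem P_le : (P : Subgroup G) ≤ Subgroup.normalizer (M : Set G) := fun g hg => by
  obtain ⟨v, b, rfl⟩ := L.mem_P.1 hg
  exact mul_mem (L.emb_mem v) (L.ye_mem b)

theorem exists_img (g : ↥(Subgroup.normalizer (M : Set G))) (v : V F) :
    ∃ w, g.1 * emb κ v * g.1⁻¹ = emb κ w :=
  L.mem_M.1 ((Subgroup.mem_normalizer_iff.1 g.2 _).1 (L.mem_M.2 ⟨v, rfl⟩))

/-- The image of a vector under an element of the normaliser. -/
noncomputable def img' (g : ↥(Subgroup.normalizer (M : Set G))) (v : V F) : V F :=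
  (L.exists_img g v).choose

theorem img'_spec (g : ↥(Subgroup.normalizer (M : Set G))) (v : V F) :
    g.1 * emb κ v * g.1⁻¹ = emb κ (L.img' g v) := (L.exists_img g v).choose_spec

theorem img'_one (v : V F) : L.img' 1 v = v := L.emb_inj (by rw [← L.img'_spec]; simp)

theorem img'_mul (g h : ↥(Subgroup.normalizer (M : Set G))) (v : V F) :
    L.img' (g * h) v = L.img' g (L.img' h v) :=
  L.emb_inj (by rw [← L.img'_spec, ← L.img'_spec, ← L.img'_spec, Subgroup.coe_mul]; group)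

/-- The action on the abelian subgroup. -/
noncomputable def rho : ↥(Subgroup.normalizer (M : Set G)) →* Equiv.Perm (V F) where
  toFun g :=
    { toFun := L.img' g
      invFun := L.img' g⁻¹
      left_inv := fun v => by rw [← L.img'_mul, inv_mul_cancel, L.img'_one]
      right_inv := fun v => by rw [← L.img'_mul, mul_inv_cancel, L.img'_one] }
  map_one' := Equiv.ext L.img'_one
  map_mul' g h := Equiv.ext (L.img'_mul g h)

theorem rho_spec (g : ↥(Subgroup.normalizer (M : Set G))) (v : V F) :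
    g.1 * emb κ v * g.1⁻¹ = emb κ (L.rho g v) := L.img'_spec g v

theorem rho_eq {g : ↥(Subgroup.normalizer (M : Set G))} {f : Equiv.Perm (V F)}
    (h : ∀ v, g.1 * emb κ v = emb κ (f v) * g.1) : L.rho g = f :=
  Equiv.ext fun v => L.emb_inj (by rw [← L.rho_spec, h, mul_inv_cancel_right])

theorem rho_emb (v : V F) : L.rho ⟨emb κ v, L.emb_mem v⟩ = 1 :=
  L.rho_eq fun w => by rw [Equiv.Perm.one_apply, ← emb_add, ← emb_add, add_comm]

theorem rho_ye (b : F) : L.rho ⟨ye κ b, L.ye_mem b⟩ = Yp b := L.rho_eq (ye_emb b)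

theorem rho_te (l : Fˣ) : L.rho ⟨te κ l, L.te_mem l⟩ = Tp l := L.rho_eq (te_emb l)

theorem emb_zc_central (c : F) (y : G) (hy : y ∈ Subgroup.centralizer ({α} : Set G)) :
    y * emb κ (zc c) = emb κ (zc c) * y := by
  rw [← L.range] at hy
  obtain ⟨t, rfl⟩ := hy
  obtain ⟨a, b, c', N, rfl⟩ := hl_surj t
  rw [emb, ← map_mul, ← map_mul]
  simp only [zc, uu_zero]
  rw [hl_center]

theorem cent_zc {c : F} (hc : c ≠ 0) :
    Subgroup.centralizer ({emb κ (zc c)} : Set G) = Subgroup.centralizer ({α} : Set G) := by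
  refine L.hb _ (L.range ▸ ⟨_, rfl⟩) (fun e => hc ?_) (fun y hy => L.emb_zc_central c y hy)
  rw [← emb_zero (κ := κ)] at e
  simpa [zc] using congrArg Prod.fst (L.emb_inj e)

/-- An element of the normaliser fixing a nonzero central vector. -/
theorem decomp {g : ↥(Subgroup.normalizer (M : Set G))} {c : F} (hc : c ≠ 0)
    (h : L.rho g (zc c) = zc c) : ∃ v b l, g.1 = emb κ v * ye κ b * te κ l := by
  have hcm : g.1 ∈ Subgroup.centralizer ({α} : Set G) := by
    rw [← L.cent_zc hc, Subgroup.mem_centralizer_singleton_iff]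
    have := L.rho_spec g (zc c)
    rw [h] at this
    exact mul_inv_eq_iff_eq_mul.1 this
  rw [← L.range] at hcm
  obtain ⟨t, ht⟩ := hcm
  obtain ⟨a, b, c', N, rfl⟩ := hl_surj t
  obtain ⟨w, hw⟩ := L.exists_img g ((0, 1, 0) : V F)
  rw [← ht, mul_inv_eq_iff_eq_mul, emb, emb, ← map_mul, ← map_mul, hl_mul, hl_mul] at hw
  obtain ⟨-, h2, -, -⟩ := hl_inj (L.inj hw)
  simp [uu_val] at h2
  have hdet := N.2
  rw [Matrix.det_fin_two, h2, mul_zero, sub_zero] at hdet
  have hl0 : N.1 0 0 ≠ 0 := left_ne_zero_of_mul_eq_one hdet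
  set l := Units.mk0 _ hl0
  set d := N.1 0 1 * N.1 0 0
  refine ⟨(c' - (a - d * b) * b, a - d * b, d), b, l, ?_⟩
  rw [← ht, emb, ye, te, ← map_mul, ← map_mul, hl_mul, hl_mul]
  congr 2
  · simp [uu_val]
  · simp [uu_val]
  · simp [uu_val]
  · refine Subtype.ext ?_
    rw [mul_one, Matrix.SpecialLinearGroup.coe_mul, uu_val, dd_val]
    have h11 : N.1 1 1 = ((l⁻¹ : Fˣ) : F) := by
      rw [Units.val_inv_eq_inv_val]
      exact eq_inv_of_mul_eq_one_right hdet
    ext i j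
    fin_cases i <;> fin_cases j <;>
      simp [Matrix.mul_apply, Fin.sum_univ_two, h2, h11, l, d] <;> field_simp

theorem rho_prod (v : V F) (b : F) (l : Fˣ) {g : ↥(Subgroup.normalizer (M : Set G))}
    (hg : g.1 = emb κ v * ye κ b * te κ l) : L.rho g = Yp b * Tp l := by
  rw [show g = ⟨emb κ v, L.emb_mem v⟩ * ⟨ye κ b, L.ye_mem b⟩ * ⟨te κ l, L.te_mem l⟩ from
    Subtype.ext hg, map_mul, map_mul, L.rho_emb, L.rho_ye, L.rho_te, one_mul]

theorem ker_rho : L.rho.ker = M.subgroupOf (Subgroup.normalizer (M : Set G)) := by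
  ext g
  rw [MonoidHom.mem_ker, Subgroup.mem_subgroupOf]
  constructor
  · intro h
    obtain ⟨v, b, l, e⟩ := L.decomp one_ne_zero (g := g) (by rw [h]; rfl)
    rw [L.rho_prod v b l e] at h
    obtain ⟨rfl, rfl⟩ := YT_inj (h.trans (by simp [Yp_zero, Tp_one] :
      (1 : Equiv.Perm (V F)) = Yp 0 * Tp 1))
    exact L.mem_M.2 ⟨v, by rw [e, ye_zero, te_one, mul_one, mul_one]⟩
  · intro h
    obtain ⟨v, hv⟩ := L.mem_M.1 h
    exact (congrArg L.rho (Subtype.ext hv : g = ⟨emb κ v, L.emb_mem v⟩)).trans (L.rho_emb v)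

theorem ti_aux (g : ↥(Subgroup.normalizer (M : Set G))) {c : F} (hc : c ≠ 0) (d : F)
    (h : (L.rho g (zc c)).2 = 0) : (L.rho g (zc d)).2 = 0 := by
  obtain ⟨c', hc'⟩ : L.rho g (zc c) ∈ Z0 F := mem_Z0.2 h
  have hg := L.rho_spec g (zc c)
  rw [← hc'] at hg
  set w := L.rho g (zc d) with hwdef
  have hy : ye κ 1 ∈ Subgroup.centralizer ({α} : Set G) := L.range ▸ ⟨_, rfl⟩
  have hcomm : ye κ 1 * emb κ w = emb κ w * ye κ 1 := by
    have h1 : g.1⁻¹ * ye κ 1 * g.1 ∈ Subgroup.centralizer ({α} : Set G) := by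
      rw [← L.cent_zc hc, Subgroup.mem_centralizer_singleton_iff]
      have h2 := L.emb_zc_central c' _ hy
      rw [← hg] at h2
      calc g.1⁻¹ * ye κ 1 * g.1 * emb κ (zc c)
          = g.1⁻¹ * (ye κ 1 * (g.1 * emb κ (zc c) * g.1⁻¹)) * g.1 := by group
        _ = emb κ (zc c) * (g.1⁻¹ * ye κ 1 * g.1) := by rw [h2]; group
    have h3 := L.emb_zc_central d _ h1
    rw [hwdef, ← L.rho_spec]
    calc ye κ 1 * (g.1 * emb κ (zc d) * g.1⁻¹)
        = g.1 * (g.1⁻¹ * ye κ 1 * g.1 * emb κ (zc d)) * g.1⁻¹ := by group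
      _ = g.1 * emb κ (zc d) * g.1⁻¹ * ye κ 1 := by rw [h3]; group
  rw [ye_emb] at hcomm
  have h4 := L.emb_inj (mul_right_cancel hcomm)
  rw [Yp_apply] at h4
  have e1 := congrArg Prod.fst h4
  have e2 := congrArg (fun v : V F => v.2.1) h4
  simp at e1 e2
  refine Prod.ext ?_ e2
  have : (2 : F) * w.2.1 = 0 := by
    rw [e2] at e1
    linear_combination -e1
  exact (mul_eq_zero.1 this).resolve_left L.two_ne'

theorem stab_aux (g : ↥(Subgroup.normalizer (M : Set G))) {c : F} (hc : c ≠ 0)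
    (h : L.rho g (zc c) = zc c) : ∃ b l, L.rho g = Yp b * Tp l := by
  obtain ⟨v, b, l, e⟩ := L.decomp hc h
  exact ⟨b, l, L.rho_prod v b l e⟩

theorem move_aux : ∃ g : ↥(Subgroup.normalizer (M : Set G)), (L.rho g (zc 1)).2 ≠ 0 := by
  by_contra hne
  push Not at hne
  have hp : p.Prime := Fact.out
  haveI : CharP F p := charP_of_card_eq_prime_pow L.card
  haveI := ExpChar.prime (R := F) hp
  have hnorm : ∀ g : ↥(Subgroup.normalizer (M : Set G)), ∀ x ∈ (P : Subgroup G),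
      g.1 * x * g.1⁻¹ ∈ (P : Subgroup G) := by
    intro g x hx
    obtain ⟨v, b, rfl⟩ := L.mem_P.1 hx
    set y : ↥(Subgroup.normalizer (M : Set G)) := ⟨ye κ b, L.ye_mem b⟩
    have hy : L.rho (g * y * g⁻¹) (zc 1) = zc 1 := by
      obtain ⟨c, hc⟩ : L.rho g⁻¹ (zc 1) ∈ Z0 F := mem_Z0.2 (hne _)
      rw [map_mul, map_mul, Equiv.Perm.mul_apply, Equiv.Perm.mul_apply, ← hc, L.rho_ye, Yp_zc, hc,
        ← Equiv.Perm.mul_apply, ← map_mul, mul_inv_cancel, map_one, Equiv.Perm.one_apply]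
    obtain ⟨b', l, e⟩ := L.stab_aux _ one_ne_zero hy
    have hep : L.rho (g * y * g⁻¹) ^ p = 1 := by
      rw [← map_pow, conj_pow, map_mul, map_mul, map_pow, L.rho_ye, Yp_pow, CharP.cast_eq_zero,
        zero_mul, Yp_zero, mul_one, ← map_mul, mul_inv_cancel, map_one]
    rw [e] at hep
    obtain ⟨c, hc⟩ := YT_pow b' l p
    rw [hc] at hep
    obtain ⟨-, hlp⟩ := YT_inj (hep.trans (by simp [Yp_zero, Tp_one] : (1 : Equiv.Perm (V F)) =
      Yp 0 * Tp 1))
    have hl1 : l = 1 := Units.ext (frobenius_inj F p (by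
      simpa [frobenius_def] using congrArg Units.val hlp))
    have hk : g * y * g⁻¹ * (⟨ye κ b', L.ye_mem b'⟩)⁻¹ ∈ L.rho.ker := by
      rw [MonoidHom.mem_ker, map_mul, map_inv, e, L.rho_ye, hl1, Tp_one, mul_one, mul_inv_cancel]
    rw [L.ker_rho, Subgroup.mem_subgroupOf] at hk
    obtain ⟨w, hw⟩ := L.mem_M.1 hk
    simp only [y, Subgroup.coe_mul, Subgroup.coe_inv] at hw
    obtain ⟨v', hv'⟩ := L.exists_img g v
    refine L.mem_P.2 ⟨v' + w, b', ?_⟩
    rw [emb_add, ← hv', ← hw]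
    group
  obtain ⟨Q, R, hQR⟩ := L.hnc
  refine hQR ?_
  haveI hN : ((P.subtype L.P_le : Sylow p _) : Subgroup ↥(Subgroup.normalizer (M : Set G))).Normal :=
    ⟨fun x hx g => by
      rw [Sylow.coe_subtype, Subgroup.mem_subgroupOf] at hx ⊢
      exact hnorm g _ hx⟩
  obtain ⟨g, hg⟩ := MulAction.exists_smul_eq ↥(Subgroup.normalizer (M : Set G))
    (P.subtype L.P_le) Q
  obtain ⟨g', hg'⟩ := MulAction.exists_smul_eq ↥(Subgroup.normalizer (M : Set G))
    (P.subtype L.P_le) R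
  rw [Sylow.smul_eq_of_normal] at hg hg'
  rw [← hg, ← hg']

theorem central_conj {u : G} {Pu : Sylow p G} (hu : orderOf u = p) (hm : u ∈ (Pu : Subgroup G))
    (hcu : ∀ y ∈ (Pu : Subgroup G), y * u = u * y) :
    ∃ (g : G) (c : F), c ≠ 0 ∧ g * u * g⁻¹ = emb κ (zc c) := by
  obtain ⟨g, hg⟩ := MulAction.exists_smul_eq G Pu P
  have hmem : ∀ y, y ∈ (P : Subgroup G) ↔ g⁻¹ * y * g ∈ (Pu : Subgroup G) := fun y => by
    rw [← hg, Sylow.coe_subgroup_smul, Subgroup.mem_pointwise_smul_iff_inv_smul_mem, ← map_inv,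
      MulAut.smul_def, MulAut.conj_apply, inv_inv]
  have hgu : g * u * g⁻¹ ∈ (P : Subgroup G) := (hmem _).2 (by group; exact hm)
  have hcomm : ∀ y ∈ (P : Subgroup G), y * (g * u * g⁻¹) = g * u * g⁻¹ * y := fun y hy => by
    calc y * (g * u * g⁻¹) = g * (g⁻¹ * y * g * u) * g⁻¹ := by group
      _ = g * u * g⁻¹ * y := by rw [hcu _ ((hmem y).1 hy)]; group
  rw [← L.img] at hgu
  obtain ⟨t, ht, hte⟩ := Subgroup.mem_map.1 hgu
  obtain ⟨c, rfl⟩ := U4_center L.two_ne' ht fun y hy => L.inj (by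
    rw [map_mul, map_mul, hte]
    exact hcomm _ (L.img ▸ ⟨y, hy, rfl⟩))
  refine ⟨g, c, fun hc => ?_, by rw [← hte]; simp [emb, zc, uu_zero]⟩
  rw [hc, hl_one, map_one] at hte
  have : u = 1 := by
    calc u = g⁻¹ * (g * u * g⁻¹) * g := by group
      _ = 1 := by rw [← hte]; group
  rw [this, orderOf_one] at hu
  exact (Fact.out : p.Prime).one_lt.ne hu

/-- The induced group satisfies the hypotheses of the linear problem. -/
theorem setting : Setting p n L.rho.range where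
  hp := Fact.out
  hp2 := L.hp2
  hn := L.hn
  card := L.card
  mod4 := L.mod4
  add := by
    rintro _ ⟨g, rfl⟩ v w
    refine L.emb_inj ?_
    rw [← L.rho_spec, emb_add, emb_add, ← L.rho_spec, ← L.rho_spec]
    group
  Y_mem b := ⟨_, L.rho_ye b⟩
  T_mem l := ⟨_, L.rho_te l⟩
  stabZ := by
    rintro _ ⟨g, rfl⟩ c hc h
    exact L.stab_aux g hc h
  ti := by
    rintro _ ⟨g, rfl⟩ c d hc h
    exact L.ti_aux g hc d h
  move := by
    obtain ⟨g, hg⟩ := L.move_aux
    exact ⟨_, ⟨g, rfl⟩, hg⟩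
  notTrans := by
    obtain ⟨u, v, Pu, Pv, hu, hv, hum, huc, hvm, hvc, hne⟩ := L.hc
    obtain ⟨g, c0, h0, e0⟩ := L.central_conj hu hum huc
    obtain ⟨g', c1, h1, e1⟩ := L.central_conj hv hvm hvc
    refine ⟨c0, c1, h0, h1, ?_⟩
    rintro _ ⟨k, rfl⟩ hk
    refine hne (g'⁻¹ * k.1 * g) ?_
    have h3 := L.rho_spec k (zc c0)
    rw [hk, ← e0, ← e1] at h3
    calc g'⁻¹ * k.1 * g * u * (g'⁻¹ * k.1 * g)⁻¹ = g'⁻¹ * (k.1 * (g * u * g⁻¹) * k.1⁻¹) * g' := by
          group
      _ = v := by rw [h3]; group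

/-- The complement. -/
theorem exists_complement :
    ∃ J : Subgroup G, J ≤ Subgroup.normalizer (M : Set G) ∧
      M ⊔ J = Subgroup.normalizer (M : Set G) ∧ M ⊓ J = ⊥ ∧
      Nonempty (↥J ≃* (Matrix.ProjGenLinGroup (Fin 2) F ×
        Multiplicative (ZMod ((p ^ n - 1) / 2)))) := by
  classical
  set N := Subgroup.normalizer (M : Set G)
  have hMN : M ≤ N := fun g hg => by
    obtain ⟨v, rfl⟩ := L.mem_M.1 hg; exact L.emb_mem v
  have hYN : (Yg κ) ≤ N := by
    rintro _ ⟨b, rfl⟩; exact L.ye_mem b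
  have hYP : (Yg κ) ≤ (P : Subgroup G) := by
    rintro _ ⟨b, rfl⟩; exact L.mem_P.2 ⟨0, b, by rw [emb_zero, one_mul]⟩
  haveI : (M.subgroupOf N).Normal := Subgroup.normal_in_normalizer
  haveI : IsMulCommutative (M.subgroupOf N) :=
    ⟨⟨fun a b => Subtype.ext (Subtype.ext (L.comm _ a.2 _ b.2))⟩⟩
  have hsup : M.subgroupOf N ⊔ (Yg κ).subgroupOf N = (P : Subgroup G).subgroupOf N := by
    refine le_antisymm (sup_le (fun x hx => L.le hx) (fun x hx => hYP hx)) fun x hx => ?_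
    obtain ⟨v, b, e⟩ := L.mem_P.1 hx
    rw [show x = (⟨emb κ v, L.emb_mem v⟩ : N) * ⟨ye κ b, L.ye_mem b⟩ from Subtype.ext e]
    exact Subgroup.mul_mem_sup (L.mem_M.2 ⟨v, rfl⟩ : emb κ v ∈ M) (⟨b, rfl⟩ : ye κ b ∈ (Yg κ))
  have hdis : (Yg κ).subgroupOf N ⊓ M.subgroupOf N = ⊥ := by
    rw [Subgroup.eq_bot_iff_forall]
    rintro x ⟨⟨b, hb⟩, hx⟩
    obtain ⟨v, hv⟩ := L.mem_M.1 hx
    change ye κ b = x.1 at hb
    change x.1 = emb κ v at hv
    have := (hl_inj (L.inj (hb.trans hv))).2.1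
    subst this
    exact Subtype.ext (by rw [← hb, ye_zero]; rfl)
  have hcop : (Nat.card (M.subgroupOf N)).Coprime ((P : Subgroup G).subgroupOf N).index := by
    rw [Nat.card_congr (Subgroup.subgroupOfEquivOfLe hMN).toEquiv, L.cardM]
    refine Nat.Coprime.pow_left _ ((Nat.Prime.coprime_iff_not_dvd Fact.out).2 fun h => ?_)
    refine P.not_dvd_index ?_
    rw [← Subgroup.relIndex_mul_index L.P_le]
    exact dvd_mul_of_dvd_left h _
  obtain ⟨H, hH⟩ := Core.gaschutz_exists (K := M.subgroupOf N)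
    (U := (P : Subgroup G).subgroupOf N) (fun x hx => L.le hx) hcop
    (A := (Yg κ).subgroupOf N) (fun x hx => hYP hx) hdis hsup
  refine ⟨H.map N.subtype, Subgroup.map_subtype_le H, ?_, ?_, ?_⟩
  · conv_lhs => rw [← Subgroup.map_subgroupOf_eq_of_le hMN]
    rw [← Subgroup.map_sup, hH.sup_eq_top, ← MonoidHom.range_eq_map, Subgroup.range_subtype]
  · conv_lhs => rw [← Subgroup.map_subgroupOf_eq_of_le hMN]
    rw [← Subgroup.map_inf _ _ _ N.subtype_injective, hH.disjoint.eq_bot, Subgroup.map_bot]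
  · obtain ⟨e⟩ := L.setting.iso
    have e1 : H ≃* L.rho.range := hH.symm.QuotientMulEquiv.symm.trans
      ((QuotientGroup.quotientMulEquivOfEq L.ker_rho.symm).trans
        (QuotientGroup.quotientKerEquivRange L.rho))
    exact ⟨(H.equivMapOfInjective _ N.subtype_injective).symm.trans (e1.trans e)⟩

end Loc

end Cfsg.Agent.PSp4Local
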