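import Cfsg.Agent.PSp4Local.Count
import Cfsg.Agent.Invol.IsolatedApps
import Cfsg.Agent.Core.Fitting
import Cfsg.Agent.S0205

/-!
The involution fixes a second point: otherwise it is isolated, and the odd core is a solvable group
whose Fitting subgroup is centralised by the unipotent group.
-/

set_option autoImplicit false
set_option linter.unusedSimpArgs false
set_option linter.style.haveILetI false
set_option linter.unusedSectionVars false
open scoped Pointwise

namespace Cfsg.Agent.PSp4Local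

section Coprime

variable {G : Type*} [Group G] [Finite G]

theorem eq_one_of_conj_inv {N : Subgroup G} (hodd : Odd (Nat.card N)) {k g : G} (hk : k ∈ N)
    (hg : g ∈ N) (h : g * k * g⁻¹ = k⁻¹) : k = 1 := by
  have hg2 : g * g * k * (g * g)⁻¹ = k := by
    calc g * g * k * (g * g)⁻¹ = g * (g * k * g⁻¹) * g⁻¹ := by group
      _ = g * k⁻¹ * g⁻¹ := by rw [h]
      _ = (g * k * g⁻¹)⁻¹ := by group
      _ = k := by rw [h, inv_inv]
  have hcg : Commute (g * g) k := mul_inv_eq_iff_eq_mul.1 hg2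
  obtain ⟨m, hm⟩ := hodd
  have hpow : ∀ x ∈ N, x ^ Nat.card N = 1 := fun x hx =>
    congrArg Subtype.val (pow_card_eq_one' (x := (⟨x, hx⟩ : N)))
  have hgm : (g * g) ^ (m + 1) = g := by
    rw [← pow_two, ← pow_mul, show 2 * (m + 1) = Nat.card N + 1 by omega, pow_succ, hpow g hg,
      one_mul]
  have h2 := hcg.pow_left (m + 1)
  rw [hgm] at h2
  rw [h2.eq, mul_inv_cancel_right] at h
  have hk2 : k * k = 1 := by
    nth_rewrite 2 [h]
    exact mul_inv_cancel k
  calc k = k ^ (2 * m + 1) := by rw [pow_succ, pow_mul, pow_two, hk2, one_pow, one_mul]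
    _ = 1 := by rw [← hm]; exact hpow k hk

/-- A dihedral group acting coprimely whose reflection fixes only what the rotation fixes. -/
theorem commute_of_dihedral {N : Subgroup G} {p : ℕ} (hp : p.Prime) (hp2 : p ≠ 2)
    (hodd : Odd (Nat.card N)) (hpN : ¬ p ∣ Nat.card N) {y j : G} (hy : y ^ p = 1) (hj : j * j = 1)
    (hjy : j * y * j = y⁻¹) (hyN : ∀ v ∈ N, y * v * y⁻¹ ∈ N) (hjN : ∀ v ∈ N, j * v * j ∈ N)
    (hfix : ∀ c ∈ N, j * c * j = c → y * c * y⁻¹ = c) (v : G) (hv : v ∈ N) :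
    y * v * y⁻¹ = v := by
  obtain ⟨m, hm⟩ := hodd
  have hpow : ∀ x ∈ N, x ^ (2 * m + 1) = 1 := fun x hx => by
    rw [← hm]
    exact congrArg Subtype.val (pow_card_eq_one' (x := (⟨x, hx⟩ : N)))
  have hjinv : j⁻¹ = j := inv_eq_of_mul_eq_one_right hj
  have hdec : ∀ w ∈ N, ∃ c ∈ N, ∃ i ∈ N, j * c * j = c ∧ j * i * j = i⁻¹ ∧ w = c * i := by
    intro w hw
    set u := w⁻¹ * (j * w * j) with hu
    have huN : u ∈ N := mul_mem (inv_mem hw) (hjN w hw)
    have hju : j * u * j = u⁻¹ := by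
      rw [hu]
      calc j * (w⁻¹ * (j * w * j)) * j = j * w⁻¹ * j * w * (j * j) := by group
        _ = j * w⁻¹ * j * w := by rw [hj, mul_one]
        _ = (w⁻¹ * (j⁻¹ * w * j⁻¹))⁻¹ := by group
        _ = _ := by rw [hjinv]
    set r := u ^ (m + 1) with hr
    have hjr : j * r * j = r⁻¹ := by
      have h1 : ∀ k : ℕ, j * u ^ k * j = (u⁻¹) ^ k := by
        intro k
        induction k with
        | zero => simpa using hj
        | succ k ih =>
          rw [pow_succ, pow_succ, ← ih, ← hju]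
          calc j * (u ^ k * u) * j = j * u ^ k * 1 * u * j := by group
            _ = j * u ^ k * (j * j) * u * j := by rw [hj]
            _ = _ := by group
      rw [hr, h1, inv_pow]
    have hrr : r * r = u := by
      rw [hr, ← pow_add, show m + 1 + (m + 1) = (2 * m + 1) + 1 by omega, pow_succ, hpow u huN,
        one_mul]
    refine ⟨w * r, mul_mem hw (pow_mem huN _), r⁻¹, inv_mem (pow_mem huN _), ?_, ?_, by group⟩
    · calc j * (w * r) * j = j * w * 1 * r * j := by group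
        _ = (j * w * j) * (j * r * j) := by rw [← hj]; group
        _ = (w * u) * r⁻¹ := by rw [hjr, hu, mul_inv_cancel_left]
        _ = _ := by rw [← hrr]; group
    · calc j * r⁻¹ * j = (j⁻¹ * r * j⁻¹)⁻¹ := by group
        _ = r⁻¹⁻¹ := by rw [hjinv, hjr]
  have hyj : j * y⁻¹ * j = y := by
    calc j * y⁻¹ * j = (j⁻¹ * y * j⁻¹)⁻¹ := by group
      _ = y := by rw [hjinv, hjy, inv_inv]
  have hinv : ∀ v ∈ N, j * v * j = v⁻¹ → y * v * y⁻¹ = v := by
    intro v hv hjv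
    obtain ⟨c, hc, i, hi, hjc, hji, e⟩ := hdec _ (hyN v hv)
    have hyc := hfix c hc hjc
    have e1 : y⁻¹ * v⁻¹ * y = c * i⁻¹ := by
      have : j * (y * v * y⁻¹) * j = j * (c * i) * j := by rw [e]
      calc y⁻¹ * v⁻¹ * y = (j * y * j) * (j * v * j) * (j * y⁻¹ * j) := by rw [hjy, hjv, hyj]
        _ = j * y * (j * j) * v * (j * j) * y⁻¹ * j := by group
        _ = j * (y * v * y⁻¹) * j := by rw [hj]; group
        _ = j * c * 1 * i * j := by rw [this]; group
        _ = (j * c * j) * (j * i * j) := by rw [← hj]; group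
        _ = _ := by rw [hjc, hji]
    have e2 : y ^ 2 * i * (y ^ 2)⁻¹ = c * i * c := by
      have hv2 : v = y * i * y⁻¹ * c⁻¹ := by
        have h3 : y⁻¹ * v * y = i * c⁻¹ := by
          have := congrArg (·⁻¹) e1
          simpa [mul_assoc] using this
        calc v = y * (y⁻¹ * v * y) * y⁻¹ := by group
          _ = y * (i * c⁻¹) * y⁻¹ := by rw [h3]
          _ = y * i * y⁻¹ * (y * c * y⁻¹)⁻¹ := by group
          _ = _ := by rw [hyc]
      have h4 : y * (y * i * y⁻¹ * c⁻¹) * y⁻¹ = c * i := by rw [← hv2, e]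
      calc y ^ 2 * i * (y ^ 2)⁻¹ = y * (y * i * y⁻¹ * c⁻¹) * y⁻¹ * (y * c * y⁻¹) := by
            rw [pow_two]; group
        _ = _ := by rw [h4, hyc]
    have hy2c : y ^ 2 * c * (y ^ 2)⁻¹ = c := by
      calc y ^ 2 * c * (y ^ 2)⁻¹ = y * (y * c * y⁻¹) * y⁻¹ := by rw [pow_two]; group
        _ = c := by rw [hyc, hyc]
    have hit : ∀ k : ℕ, (y ^ 2) ^ k * i * ((y ^ 2) ^ k)⁻¹ = c ^ k * i * c ^ k := by
      intro k
      induction k with
      | zero => simp
      | succ k ih =>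
        have hck : y ^ 2 * c ^ k * (y ^ 2)⁻¹ = c ^ k := by rw [← conj_pow, hy2c]
        calc (y ^ 2) ^ (k + 1) * i * ((y ^ 2) ^ (k + 1))⁻¹
            = y ^ 2 * ((y ^ 2) ^ k * i * ((y ^ 2) ^ k)⁻¹) * (y ^ 2)⁻¹ := by
              rw [pow_succ']; group
          _ = (y ^ 2 * c ^ k * (y ^ 2)⁻¹) * (y ^ 2 * i * (y ^ 2)⁻¹) * (y ^ 2 * c ^ k * (y ^ 2)⁻¹) := by
              rw [ih]; group
          _ = c ^ k * (c * i * c) * c ^ k := by rw [hck, e2]
          _ = _ := by rw [pow_succ c k]; nth_rewrite 2 [← (Commute.self_pow c k).eq]; group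
    have hc1 : c = 1 := by
      have h5 := hit p
      rw [← pow_mul, mul_comm 2 p, pow_mul, hy, one_pow, one_mul, inv_one, mul_one] at h5
      have h6 : c ^ p = 1 := eq_one_of_conj_inv (N := N) ⟨m, hm⟩ (pow_mem hc p) (inv_mem hi) (by
        rw [inv_inv, eq_inv_iff_mul_eq_one]
        calc i⁻¹ * c ^ p * i * c ^ p = i⁻¹ * (c ^ p * i * c ^ p) := by group
          _ = 1 := by rw [← h5, inv_mul_cancel])
      have h7 : orderOf c ∣ p := orderOf_dvd_of_pow_eq_one h6
      rcases (Nat.dvd_prime hp).1 h7 with h | h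
      · exact orderOf_eq_one_iff.1 h
      · exfalso
        apply hpN
        rw [← h]
        exact (Subgroup.orderOf_mk c hc) ▸ orderOf_dvd_natCard (⟨c, hc⟩ : N)
    subst hc1
    rw [one_mul] at e
    rw [one_mul, mul_one] at e2
    obtain ⟨k, hk⟩ := hp.odd_of_ne_two hp2
    have e3 : y * i * y⁻¹ = i := by
      have := hit (k + 1)
      rw [← pow_mul, show 2 * (k + 1) = p + 1 by omega, pow_succ, hy, one_mul, one_pow, one_mul,
        mul_one] at this
      exact this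
    rw [e]
    calc i = y⁻¹ * (y * i * y⁻¹) * y := by group
      _ = y⁻¹ * (y * v * y⁻¹) * y := by rw [e3, e]
      _ = v := by group
  obtain ⟨c, hc, i, hi, hjc, hji, rfl⟩ := hdec v hv
  calc y * (c * i) * y⁻¹ = (y * c * y⁻¹) * (y * i * y⁻¹) := by group
    _ = _ := by rw [hfix c hc hjc, hinv i hi hji]

/-- Without a normal `p`-subgroup the Fitting subgroup has order prime to `p`. -/
theorem fittingSubgroup_le_pPrimeCore {p : ℕ} [hp : Fact p.Prime] (h : Cfsg.pCore p G = ⊥) :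
    Cfsg.fittingSubgroup G ≤ Cfsg.pPrimeCore p G := by
  rw [Core.fittingSubgroup_eq_iSup_pCore, Core.iSup_pCore_eq_iSup_primeFactors]
  refine iSup_le fun u => ?_
  obtain ⟨r, hr⟩ := u
  simp only
  haveI : Fact r.Prime := ⟨Nat.prime_of_mem_primeFactors hr⟩
  by_cases hrp : r = p
  · subst hrp
    rw [h]; exact bot_le
  · refine Core.le_pPrimeCore ?_
    obtain ⟨k, hk⟩ := (Core.pCore_isPGroup (p := r) (G := G)).exists_card_eq
    rw [hk]
    exact Nat.Coprime.pow_left _ ((Nat.coprime_primes (Fact.out) hp.out).2 hrp)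

end Coprime

variable {F : Type*} [Field F] [Fintype F] {p n : ℕ} {K : Subgroup (Equiv.Perm (V F))}

namespace Setting

variable (S : Setting p n K)
include S

theorem eq_Yp_of_order {g : Equiv.Perm (V F)} (hg : g ∈ K) (hgp : g ^ p = 1)
    (h : g '' Z0 F = Z0 F) : ∃ b, g = Yp b := by
  haveI := Fact.mk S.hp
  obtain ⟨b, l, e⟩ := S.fix_of_order hg hgp h
  obtain ⟨c, hc⟩ := YT_pow b l p
  rw [e, hc] at hgp
  obtain ⟨-, hlp⟩ := YT_inj (hgp.trans (by simp [Yp_zero, Tp_one] : (1 : Equiv.Perm (V F)) =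
    Yp 0 * Tp 1))
  haveI := S.charP
  haveI := ExpChar.prime (R := F) S.hp
  have : (l : F) ^ p = 1 := by simpa using congrArg Units.val hlp
  have hl : l = 1 := Units.ext (frobenius_inj F p (by simpa [frobenius_def] using this))
  exact ⟨b, by rw [e, hl, Tp_one, mul_one]⟩

/-- No nontrivial normal `p`-subgroup. -/
theorem pGroup_normal_eq_bot {R : Subgroup K} [R.Normal] (hR : IsPGroup p R) : R = ⊥ := by
  classical
  haveI := Fact.mk S.hp
  have hcard : ¬ p ∣ Nat.card S.Pt := by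
    rw [Nat.card_coe_set_eq, S.ncard_Pt]
    intro h
    have h2 := Dvd.dvd.mul_right S.p_dvd_card S.kk
    rw [add_comm] at h
    exact S.hp.one_lt.ne' (Nat.dvd_one.1 ((Nat.dvd_add_right h2).1 h))
  letI : MulAction R S.Pt :=
    { smul := fun r P => ⟨(r.1.1 : Equiv.Perm (V F)) '' P.1, S.image_mem P.2 r.1.2⟩
      one_smul := fun P => Subtype.ext (by show _ '' P.1 = P.1; simp)
      mul_smul := fun r s P => Subtype.ext (by
        show (r.1.1 * s.1.1 : Equiv.Perm (V F)) '' P.1 = _ '' (_ '' P.1)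
        rw [Equiv.Perm.coe_mul, Set.image_comp]) }
  obtain ⟨P, hP⟩ := hR.nonempty_fixed_point_of_prime_not_dvd_card S.Pt hcard
  have hfixall : ∀ Q ∈ S.Pt, ∀ r : R, (r.1.1 : Equiv.Perm (V F)) '' Q = Q := by
    intro Q hQ r
    obtain ⟨g, hg, rfl⟩ := hQ
    obtain ⟨h, hh, e⟩ := P.2
    set w : K := ⟨g, hg⟩ * ⟨h, hh⟩⁻¹
    have hw : g '' Z0 F = (w.1 : Equiv.Perm (V F)) '' P.1 := by
      rw [← e, ← Set.image_comp, ← Equiv.Perm.coe_mul]; simp [w]
    have h1 := congrArg Subtype.val (hP ⟨w⁻¹ * r.1 * w⁻¹⁻¹, Subgroup.Normal.conj_mem ‹_› r.1 r.2 w⁻¹⟩)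
    change ((w⁻¹ * r.1 * w⁻¹⁻¹ : K).1 : Equiv.Perm (V F)) '' P.1 = P.1 at h1
    rw [hw]
    conv_rhs => rw [← h1]
    rw [← Set.image_comp, ← Set.image_comp, ← Equiv.Perm.coe_mul, ← Equiv.Perm.coe_mul]
    congr 2
    push_cast
    group
  rw [Subgroup.eq_bot_iff_forall]
  intro r hr
  by_contra hne
  obtain ⟨⟨s, hs⟩, hso⟩ := exists_prime_orderOf_dvd_card' p (G := R) (by
    obtain ⟨k, hk⟩ := hR.exists_card_eq
    rw [hk]
    refine dvd_pow_self p fun h0 => hne ?_
    rw [h0, pow_zero] at hk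
    exact Subgroup.mem_bot.1 ((Subgroup.eq_bot_of_card_eq R hk) ▸ hr))
  have hsp : (s : Equiv.Perm (V F)) ^ p = 1 := by
    have := pow_orderOf_eq_one (⟨s, hs⟩ : R)
    rw [hso] at this
    simpa using congrArg (fun x : R => (x.1.1 : Equiv.Perm (V F))) this
  obtain ⟨b, hb⟩ := S.eq_Yp_of_order s.2 hsp (hfixall _ S.Z0_mem ⟨s, hs⟩)
  obtain ⟨Q, hQ, hQne⟩ := S.exists_ne_Z0
  refine S.Yp_image_ne hQ hQne (b := b) (fun h0 => ?_) (hb ▸ hfixall Q hQ ⟨s, hs⟩)
  rw [h0, Yp_zero] at hb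
  have : (⟨s, hs⟩ : R) = 1 := Subtype.ext (Subtype.ext hb)
  rw [this, orderOf_one] at hso
  exact S.hp.one_lt.ne hso

theorem F0_ne_zero : S.F0.ncard ≠ 0 := by
  intro h0
  classical
  haveI := Fact.mk S.hp
  have hF0 : S.F0 = ∅ := (Set.ncard_eq_zero (Set.toFinite _)).1 h0
  set z : K := ⟨jm F, S.jm_mem⟩ with hz
  have honly : ∀ P ∈ S.Pt, jm F '' P = P → P = Z0 F := fun P hP hfix => by
    by_contra hne
    have : P ∈ S.F0 := ⟨hP, hne, hfix⟩
    rw [hF0] at this
    exact this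
  have hzo : orderOf z = 2 := orderOf_eq_prime (Subtype.ext (by rw [pow_two]; exact jm_sq))
    fun e => S.jm_ne_one (congrArg Subtype.val e)
  have hiso : Cfsg.IsIsolatedInvolution z := by
    refine ⟨hzo, fun g hc => ?_⟩
    have hc' : jm F * (g.1 * jm F * g.1⁻¹) = g.1 * jm F * g.1⁻¹ * jm F := congrArg Subtype.val hc.eq
    have hgP : g.1 '' Z0 F = Z0 F := by
      refine honly _ ⟨g.1, g.2, rfl⟩ ?_
      have h1 : jm F '' ((g.1⁻¹ * jm F * g.1) '' Z0 F) = (g.1⁻¹ * jm F * g.1) '' Z0 F := by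
        have e : jm F * (g.1⁻¹ * jm F * g.1) = g.1⁻¹ * jm F * g.1 * jm F := by
          calc jm F * (g.1⁻¹ * jm F * g.1) = g.1⁻¹ * (g.1 * jm F * g.1⁻¹ * jm F) * g.1 := by group
            _ = g.1⁻¹ * (jm F * (g.1 * jm F * g.1⁻¹)) * g.1 := by rw [hc']
            _ = _ := by group
        rw [← Set.image_comp, ← Equiv.Perm.coe_mul, e, Equiv.Perm.coe_mul, Set.image_comp, S.jm_Z0]
      have h2 := honly _ ⟨_, mul_mem (mul_mem (inv_mem g.2) S.jm_mem) g.2, rfl⟩ h1
      have h3 : jm F * g.1 = g.1 * (g.1⁻¹ * jm F * g.1) := by group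
      rw [← Set.image_comp, ← Equiv.Perm.coe_mul, h3, Equiv.Perm.coe_mul, Set.image_comp, h2]
    have hgC : g.1 * jm F * g.1⁻¹ ∈ C0 F := S.mem_C0_of_fix
      (mul_mem (mul_mem g.2 S.jm_mem) (inv_mem g.2)) one_ne_zero (by
        simp only [Equiv.Perm.mul_apply]
        have h1 : (g.1⁻¹ : Equiv.Perm (V F)) (zc 1) ∈ Z0 F := by
          have := (S.mem_Bs.1 (inv_mem ((S.mem_Bs).2 ⟨g.2, hgP⟩))).2
          rw [← this]; exact ⟨_, zc_mem 1, rfl⟩
        rw [S.jm_fix_pointwise S.Z0_mem S.jm_Z0 h1, Equiv.Perm.coe_inv, Equiv.apply_symm_apply])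
    obtain ⟨c, hc2⟩ := C0_invol S.two_ne' hgC (fun e => S.jm_ne_one (by
      have : jm F = g.1⁻¹ * (g.1 * jm F * g.1⁻¹) * g.1 := by group
      rw [this, e]; group)) (by
      rw [show g.1 * jm F * g.1⁻¹ * (g.1 * jm F * g.1⁻¹) = g.1 * (jm F * jm F) * g.1⁻¹ by group,
        jm_sq]
      group)
    have hc3 : g.1 * jm F * g.1⁻¹ = Yp c * jm F := by
      rw [hc2, jm, mul_assoc, Tp_Yp, ← mul_assoc, Yp_mul]
      congr 2
      simp [← two_mul, mul_div_cancel₀ _ S.two_ne']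
    rw [hc3] at hc'
    have hc4 : Yp (c * (((-1 : Fˣ)⁻¹ : Fˣ) : F)) * Tp ((-1 : Fˣ) * -1) = Yp c * Tp ((-1 : Fˣ) * -1) := by
      rw [jm] at hc'
      rw [← Tp_mul, ← mul_assoc, ← Tp_Yp, ← mul_assoc, mul_assoc (Tp _), hc', mul_assoc]
    have h5 := (YT_inj hc4).1
    simp at h5
    have hc0 : c = 0 := by
      have : (2 : F) * c = 0 := by linear_combination -h5
      exact (mul_eq_zero.1 this).resolve_left S.two_ne'
    exact Subtype.ext (by show g.1 * jm F * g.1⁻¹ = jm F; rw [hc3, hc0, Yp_zero, one_mul])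
  set O := Cfsg.oddCore K with hO
  haveI : Fact (Nat.Prime 2) := ⟨Nat.prime_two⟩
  have hOodd : Odd (Nat.card O) := by
    rw [← Nat.not_even_iff_odd, even_iff_two_dvd]
    exact Core.not_dvd_card_pPrimeCore
  haveI : Group.IsSolvable O := S0205.result hOodd
  have hY : ∀ b, (⟨Yp b, S.Y_mem b⟩ : K) ∈ O := by
    intro b
    have h := Invol.zstar hiso ⟨Yp (-b / 2), S.Y_mem _⟩
    have e : z * ⟨Yp (-b / 2), S.Y_mem _⟩ * z⁻¹ * (⟨Yp (-b / 2), S.Y_mem _⟩ : K)⁻¹ = ⟨Yp b, S.Y_mem b⟩ := by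
      apply Subtype.ext
      push_cast [hz]
      rw [show (jm F)⁻¹ = jm F from inv_eq_of_mul_eq_one_right jm_sq, jm, Tp_Yp, mul_assoc (Yp _) (Tp _),
        Tp_mul, Yp_inv]
      simp [Tp_one, Yp_mul]
      congr 1
      field_simp [S.two_ne']
      ring
    rw [e] at h
    exact h
  set Fo := (Cfsg.fittingSubgroup O).map O.subtype with hFo
  haveI : Fo.Normal := by rw [hFo, Core.map_fittingSubgroup_normal O]; infer_instance
  have hle : Cfsg.fittingSubgroup O ≤ Cfsg.pPrimeCore p O := by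
    refine fittingSubgroup_le_pPrimeCore ?_
    have hbot : (Cfsg.pCore p O).map O.subtype = ⊥ := by
      haveI : ((Cfsg.pCore p O).map O.subtype).Normal := by
        rw [Core.map_pCore_normal O]; infer_instance
      exact S.pGroup_normal_eq_bot ((Core.pCore_isPGroup).map _)
    exact (Subgroup.map_eq_bot_iff_of_injective _ O.subtype_injective).1 hbot
  have hpFo : ¬ p ∣ Nat.card Fo := by
    rw [hFo, Subgroup.card_map_of_injective O.subtype_injective]
    exact fun h => Core.not_dvd_card_pPrimeCore (h.trans (Subgroup.card_dvd_of_le hle))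
  have hFodd : Odd (Nat.card Fo) := by
    rw [hFo, Subgroup.card_map_of_injective O.subtype_injective]
    exact hOodd.of_dvd_nat (Subgroup.card_subgroup_dvd_card _)
  have hcent : ∀ b : F, ∀ v ∈ Fo, (⟨Yp b, S.Y_mem b⟩ : K) * v * (⟨Yp b, S.Y_mem b⟩ : K)⁻¹ = v := by
    intro b
    refine commute_of_dihedral (j := z) S.hp S.hp2 hFodd hpFo
      (Subtype.ext (by push_cast; exact S.Yp_pow_p b)) (Subtype.ext jm_sq) ?_ ?_ ?_ ?_
    · apply Subtype.ext
      push_cast [hz]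
      rw [jm, Tp_Yp, mul_assoc, Tp_mul, Yp_inv]
      simp [Tp_one]
    · exact fun v hv => Subgroup.Normal.conj_mem ‹_› v hv _
    · intro v hv
      have h1 := Subgroup.Normal.conj_mem ‹Fo.Normal› v hv z
      rwa [show z⁻¹ = z from inv_eq_of_mul_eq_one_right (Subtype.ext jm_sq)] at h1
    · intro c hc hjc
      have hjc' : jm F * c.1 * jm F = c.1 := congrArg Subtype.val hjc
      have hcB : c.1 '' Z0 F = Z0 F := by
        refine honly _ ⟨c.1, c.2, rfl⟩ ?_
        conv_rhs => rw [← hjc', Equiv.Perm.coe_mul, Set.image_comp, S.jm_Z0, Equiv.Perm.coe_mul,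
          Set.image_comp]
      obtain ⟨b', hb'⟩ := S.eq_Yp_of_order (g := c.1 * Yp b * c.1⁻¹)
        (mul_mem (mul_mem c.2 (S.Y_mem b)) (inv_mem c.2))
        (by rw [conj_pow, S.Yp_pow_p, mul_one, mul_inv_cancel]) (by
          have hci := (S.mem_Bs.1 (inv_mem ((S.mem_Bs).2 ⟨c.2, hcB⟩))).2
          rw [Equiv.Perm.coe_mul, Set.image_comp, hci, Equiv.Perm.coe_mul, Set.image_comp, S.Yp_Z0,
            hcB])
      set yb : K := ⟨Yp b, S.Y_mem b⟩
      have hw : yb * c * yb⁻¹ * c⁻¹ ∈ Fo := mul_mem (Subgroup.Normal.conj_mem ‹_› c hc _) (inv_mem hc)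
      have hw' : (yb * c * yb⁻¹ * c⁻¹ : K).1 = Yp (b + -b') := by
        push_cast
        rw [← Yp_mul, ← Yp_inv, ← hb']
        simp only [yb]
        group
      have hw1 : yb * c * yb⁻¹ * c⁻¹ = 1 := by
        refine orderOf_eq_one_iff.1 (Nat.eq_one_of_dvd_coprimes
          ((Nat.Prime.coprime_iff_not_dvd S.hp).2 hpFo) ?_ ?_)
        · exact orderOf_dvd_of_pow_eq_one (Subtype.ext (by
            rw [SubmonoidClass.coe_pow, hw']; exact S.Yp_pow_p _))
        · rw [← Subgroup.orderOf_mk _ hw]; exact orderOf_dvd_natCard _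
      exact mul_inv_eq_one.1 hw1
  have hmem : (⟨⟨Yp 1, S.Y_mem 1⟩, hY 1⟩ : O) ∈ Cfsg.fittingSubgroup O := by
    apply Core.centralizer_fittingSubgroup_le
    rw [Subgroup.mem_centralizer_iff]
    intro v hv
    apply Subtype.ext
    have := hcent 1 v.1 ⟨v, hv, rfl⟩
    push_cast
    exact (mul_inv_eq_iff_eq_mul.1 this).symm
  have h1 : Yp (1 : F) ≠ 1 := fun e => one_ne_zero (α := F) (YT_inj
    ((Yp_eq_YT _).symm.trans (e.trans (by simp [Yp_zero, Tp_one] :
      (1 : Equiv.Perm (V F)) = Yp 0 * Tp 1)))).1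
  apply hpFo
  have hord : orderOf (⟨Yp 1, S.Y_mem 1⟩ : K) = p :=
    orderOf_eq_prime (Subtype.ext (by rw [SubmonoidClass.coe_pow]; exact S.Yp_pow_p 1))
      fun e => h1 (congrArg Subtype.val e)
  rw [← hord, ← Subgroup.orderOf_mk (⟨Yp 1, S.Y_mem 1⟩ : K) (H := Fo) ⟨_, hmem, rfl⟩]
  exact orderOf_dvd_natCard _

end Setting

end Cfsg.Agent.PSp4Local
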