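import Cfsg.Agent.PSp4Local.Basic

/-!
Points fixed by unipotent elements, by the involution `Tp (-1)` and by torus elements.
-/

set_option autoImplicit false
set_option linter.unusedSimpArgs false
set_option linter.style.haveILetI false
set_option linter.unusedSectionVars false
open scoped Pointwise

namespace Cfsg.Agent.PSp4Local

variable {F : Type*} [Field F]

/-- The involution of the torus. -/
def jm (F : Type*) [Field F] : Equiv.Perm (V F) := Tp (-1 : Fˣ)

theorem jm_apply (v : V F) : jm F v = (v.1, -v.2.1, v.2.2) := by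
  simp [jm, Tp_apply]

theorem jm_sq : jm F * jm F = 1 := by
  rw [jm, Tp_mul]; simp [Tp_one]

theorem Yp_pow (b : F) (k : ℕ) : Yp b ^ k = Yp ((k : F) * b) := by
  induction k with
  | zero => simp [Yp_zero]
  | succ k ih => rw [pow_succ, ih, Yp_mul]; push_cast; ring_nf

theorem YT_pow (b : F) (l : Fˣ) (k : ℕ) : ∃ c : F, (Yp b * Tp l) ^ k = Yp c * Tp (l ^ k) := by
  induction k with
  | zero => exact ⟨0, by simp [Yp_zero, Tp_one]⟩
  | succ k ih =>
    obtain ⟨c, hc⟩ := ih
    exact ⟨_, by rw [pow_succ, hc, YT_mul, ← pow_succ]⟩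

theorem Tp_eq_YT (l : Fˣ) : Tp l = Yp 0 * Tp l := by rw [Yp_zero, one_mul]

theorem Yp_eq_YT (b : F) : Yp b = Yp b * Tp 1 := by rw [Tp_one, mul_one]

variable [Fintype F] {p n : ℕ} {K : Subgroup (Equiv.Perm (V F))}

namespace Setting

variable (S : Setting p n K)
include S

theorem jm_mem : jm F ∈ K := S.T_mem _

theorem jm_ne_one : jm F ≠ 1 := fun h => by
  have := congrArg (fun g : Equiv.Perm (V F) => (g (0, 1, 0)).2.1) h
  simp [jm_apply] at this
  exact S.two_ne' (by linear_combination -this)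

theorem Yp_pow_p (b : F) : Yp b ^ p = 1 := by
  haveI := S.charP
  rw [Yp_pow, CharP.cast_eq_zero, zero_mul, Yp_zero]

theorem conj_stab {P : Set (V F)} {g h : Equiv.Perm (V F)} (hh : h '' Z0 F = P) (hP : g '' P = P) :
    (h⁻¹ * g * h) '' Z0 F = Z0 F := by
  rw [Equiv.Perm.coe_mul, Set.image_comp, hh, Equiv.Perm.coe_mul, Set.image_comp, hP, ← hh,
    ← Set.image_comp, ← Equiv.Perm.coe_mul, inv_mul_cancel]
  simp

/-- Pointwise fixing through a conjugate. -/
theorem fix_pt_of_YT {g h : Equiv.Perm (V F)} {b : F} {l : Fˣ}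
    (e : h⁻¹ * g * h = Yp b * Tp l) {v : V F} (hv : v ∈ h '' Z0 F) : g v = v := by
  obtain ⟨_, ⟨c, rfl⟩, rfl⟩ := hv
  have e2 : g = h * (Yp b * Tp l) * h⁻¹ := by rw [← e]; group
  rw [e2]
  simp [Equiv.Perm.mul_apply, Tp_zc, Yp_zc]

/-- The unipotent elements fix no point but the axis. -/
theorem Yp_image_ne {P : Set (V F)} (hP : P ∈ S.Pt) (hne : P ≠ Z0 F) {b : F} (hb : b ≠ 0) :
    Yp b '' P ≠ P := by
  intro hfix
  obtain ⟨h, hh, rfl⟩ := hP
  have hg : h⁻¹ * Yp b * h ∈ K := mul_mem (mul_mem (inv_mem hh) (S.Y_mem b)) hh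
  have hp : (h⁻¹ * Yp b * h) ^ p = 1 := by
    have := conj_pow (a := h⁻¹) (b := Yp b) (i := p)
    rw [inv_inv] at this
    rw [this, S.Yp_pow_p, mul_one, inv_mul_cancel]
  obtain ⟨c, l, e⟩ := S.fix_of_order hg hp (S.conj_stab rfl hfix)
  have hv : h (zc 1) ∈ h '' Z0 F := ⟨_, zc_mem 1, rfl⟩
  have hfv := S.fix_pt_of_YT e hv
  set v := h (zc 1)
  have h0 : v ≠ 0 := fun h0 => by
    have := h.injective (h0.trans (S.map_zero hh).symm)
    simp [zc] at this
  rw [Yp_apply] at hfv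
  have e1 := congrArg (fun w : V F => w.2.1) hfv
  have e2 := congrArg (fun w : V F => w.1) hfv
  simp only at e1 e2
  have hu : v.2.2 = 0 := by
    have : b * v.2.2 = 0 := by linear_combination -e1
    exact (mul_eq_zero.1 this).resolve_left hb
  have hx : v.2.1 = 0 := by
    have : (2 * b) * v.2.1 = 0 := by rw [hu] at e2; linear_combination -e2
    exact (mul_eq_zero.1 this).resolve_left (mul_ne_zero S.two_ne' hb)
  exact hne (S.pt_eq ⟨h, hh, rfl⟩ S.Z0_mem h0 hv (mem_Z0.2 (Prod.ext hx hu)))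

/-- The middle axis is not a point. -/
theorem Xs_not_mem : Xs F ∉ S.Pt := by
  rintro ⟨h, hh, e⟩
  obtain ⟨c0, c1, h0, h1, hc⟩ := S.notTrans
  obtain ⟨a, ha⟩ : h (zc c0) ∈ Xs F := e ▸ ⟨_, zc_mem c0, rfl⟩
  obtain ⟨b, hb⟩ : h (zc c1) ∈ Xs F := e ▸ ⟨_, zc_mem c1, rfl⟩
  have hne : ∀ c : F, c ≠ 0 → ∀ a : F, ((0, a, 0) : V F) = h (zc c) → a ≠ 0 := by
    intro c hc' a ha ha0
    rw [ha0] at ha
    have := h.injective ((S.map_zero hh).trans ha)
    exact hc' (congrArg Prod.fst this).symm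
  have ha0 := hne _ h0 _ ha
  have hb0 := hne _ h1 _ hb
  apply hc (h⁻¹ * Tp (Units.mk0 (b / a) (div_ne_zero hb0 ha0)) * h)
    (mul_mem (mul_mem (inv_mem hh) (S.T_mem _)) hh)
  change ((0, a, 0) : V F) = _ at ha
  rw [Equiv.Perm.mul_apply, Equiv.Perm.mul_apply, ← ha, Tp_apply]
  simp only [Units.val_mk0, mul_zero, div_mul_cancel₀ b ha0]
  change ((0, b, 0) : V F) = _ at hb
  rw [hb, Equiv.Perm.coe_inv, Equiv.symm_apply_apply]

/-- Points fixed by the involution lie in its fixed space. -/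
theorem x_zero_of_jm {P : Set (V F)} (hP : P ∈ S.Pt) (hfix : jm F '' P = P) {v : V F}
    (hv : v ∈ P) : v.2.1 = 0 := by
  by_contra hx
  have hX : P = Xs F := by
    refine Set.eq_of_subset_of_ncard_le ?_ ?_ (Set.toFinite _)
    · have hj : ∀ w ∈ P, jm F w ∈ P := fun w hw => by rw [← hfix]; exact ⟨w, hw, rfl⟩
      have hfp : ∀ w ∈ P, w.2.1 = 0 → w = 0 := by
        intro w hw hw0
        by_contra hne
        obtain ⟨h, hh, rfl⟩ := hP
        obtain ⟨_, ⟨c, rfl⟩, hwc⟩ := hw
        have hc : c ≠ 0 := fun hc => hne (by rw [← hwc, hc]; exact S.map_zero hh)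
        have hfw : jm F w = w := by rw [jm_apply, hw0]; ext <;> simp [hw0]
        obtain ⟨b, l, e⟩ := S.stabZ (h⁻¹ * jm F * h) (mul_mem (mul_mem (inv_mem hh) S.jm_mem) hh) c hc (by
          rw [Equiv.Perm.mul_apply, Equiv.Perm.mul_apply, hwc, hfw, ← hwc, Equiv.Perm.coe_inv,
            Equiv.symm_apply_apply])
        have := congrArg (fun w : V F => w.2.1) (S.fix_pt_of_YT e hv)
        simp [jm_apply] at this
        exact hx (by
          have h2 : (2 : F) * v.2.1 = 0 := by linear_combination -this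
          exact (mul_eq_zero.1 h2).resolve_left S.two_ne')
      intro w hw
      have h1 := hfp _ (S.add_mem_pt hP hw (hj w hw)) (by simp [jm_apply])
      have e1 := congrArg (fun w : V F => w.1) h1
      have e2 := congrArg (fun w : V F => w.2.2) h1
      simp [jm_apply, ← two_mul, S.two_ne'] at e1 e2
      exact mem_Xs.2 ⟨e1, e2⟩
    · rw [S.ncard_pt hP, Xs, Set.ncard_range_of_injective (fun a b e => by simpa using e),
        Nat.card_eq_fintype_card]
  exact S.Xs_not_mem (hX ▸ hP)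

theorem jm_fix_pointwise {P : Set (V F)} (hP : P ∈ S.Pt) (hfix : jm F '' P = P) {v : V F}
    (hv : v ∈ P) : jm F v = v := by
  have := S.x_zero_of_jm hP hfix hv
  rw [jm_apply, this]; ext <;> simp [this]

theorem jm_Z0 : jm F '' Z0 F = Z0 F :=
  S.image_Z0 S.jm_mem (c := 1) one_ne_zero (by simp [jm, Tp_zc])

theorem Tp_Z0 (l : Fˣ) : Tp l '' Z0 F = Z0 F :=
  S.image_Z0 (S.T_mem l) (c := 1) one_ne_zero (by simp [Tp_zc])

theorem Yp_Z0 (b : F) : Yp b '' Z0 F = Z0 F :=
  S.image_Z0 (S.Y_mem b) (c := 1) one_ne_zero (by simp [Yp_zc])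

/-- A torus element fixing a point inside the fixed space of the involution. -/
theorem eq_Us_of_torus {P : Set (V F)} (hP : P ∈ S.Pt) (hne : P ≠ Z0 F)
    (hx : ∀ v ∈ P, v.2.1 = 0) {l : Fˣ} (hl : (l : F) ^ 2 ≠ 1) (hfix : Tp l '' P = P) :
    P = Us F := by
  have hd : (l : F) ^ 2 - 1 ≠ 0 := sub_ne_zero.2 hl
  let A : Set F := {u | ((0, 0, u) : V F) ∈ P}
  have hA : ∀ v ∈ P, ((l : F) ^ 2 - 1) * v.2.2 ∈ A := by
    intro v hv
    have h1 : Tp l v ∈ P := by rw [← hfix]; exact ⟨v, hv, rfl⟩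
    have h2 := S.sub_mem_pt hP h1 hv
    have e : Tp l v - v = ((0, 0, ((l : F) ^ 2 - 1) * v.2.2) : V F) := by
      rw [Tp_apply]; ext <;> simp [hx v hv] <;> ring
    show ((0, 0, ((l : F) ^ 2 - 1) * v.2.2) : V F) ∈ P
    rwa [← e]
  have hmul : (fun u => ((l : F) ^ 2 - 1) * u) '' A = A :=
    Set.eq_of_subset_of_ncard_le (by rintro _ ⟨u, hu, rfl⟩; exact hA _ hu)
      (by rw [Set.ncard_image_of_injective _ (mul_right_injective₀ hd)]) (Set.toFinite _)
  refine Set.eq_of_subset_of_ncard_le ?_ ?_ (Set.toFinite _)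
  · intro v hv
    obtain ⟨u, hu, hu'⟩ := hmul.symm.subset (hA v hv)
    have huv : u = v.2.2 := mul_left_cancel₀ hd hu'
    have h2 := S.sub_mem_pt hP hv hu
    have h3 := S.ne_Z0_mem hP hne h2 (by ext <;> simp [hx v hv, huv])
    refine mem_Us.2 ⟨?_, hx v hv⟩
    simpa using congrArg Prod.fst h3
  · rw [S.ncard_pt hP, Us, Set.ncard_range_of_injective (fun a b e => by simpa using e),
      Nat.card_eq_fintype_card]

/-- A point fixed by the squares in the torus. -/
theorem eq_Us_or_Xs (h5 : 5 < Fintype.card F) {P : Set (V F)} (hP : P ∈ S.Pt) (hne : P ≠ Z0 F)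
    (hfix : ∀ m : F, m ≠ 0 → ∀ v ∈ P, ((v.1, m ^ 2 * v.2.1, (m ^ 2) ^ 2 * v.2.2) : V F) ∈ P) :
    P = Us F ∨ P = Xs F := by
  obtain ⟨a, c, ha, hc, hac⟩ := exists_consecutive S.mod4 h5
  have hcard := S.ncard_pt hP
  by_cases hu : ∀ v ∈ P, v.2.2 = 0
  · right
    refine Set.eq_of_subset_of_ncard_le ?_ ?_ (Set.toFinite _)
    · intro v hv
      have hX : ∀ w ∈ P, ((0, (c ^ 2 - 1) * w.2.1, 0) : V F) ∈ P := fun w hw => by
        have h1 := S.sub_mem_pt hP (hfix c hc w hw) hw
        convert h1 using 1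
        ext <;> simp [hu w hw] <;> ring
      refine mem_Xs.2 ⟨?_, hu v hv⟩
      by_cases hx : v.2.1 = 0
      · exact congrArg Prod.fst (S.ne_Z0_mem hP hne hv (Prod.ext hx (hu v hv)))
      · have h1 := hX v hv
        have hne0 : (c ^ 2 - 1) * v.2.1 ≠ 0 :=
          mul_ne_zero (sub_ne_zero.2 fun e => ha (by
            have : a ^ 2 = 0 := by linear_combination hac + e
            exact eq_zero_of_pow_eq_zero this)) hx
        let A : AddSubgroup F :=
          { carrier := {x | ((0, x, 0) : V F) ∈ P}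
            add_mem' := fun h h' => by simpa using S.add_mem_pt hP h h'
            zero_mem' := S.zero_mem_pt hP
            neg_mem' := fun h => by simpa using S.sub_mem_pt hP (S.zero_mem_pt hP) h }
        have hA := mem_of_sq S.mod4 A hne0 (fun m hm => by
          have := hfix (m ^ 2) (pow_ne_zero 2 hm) _ h1
          simpa [A] using this) v.2.1
        have h3 := S.ne_Z0_mem hP hne (S.sub_mem_pt hP hv hA) (by ext <;> simp [hu v hv])
        simpa using congrArg Prod.fst h3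
    · rw [hcard, Xs, Set.ncard_range_of_injective (fun a b e => by simpa using e),
        Nat.card_eq_fintype_card]
  · left
    push Not at hu
    obtain ⟨v, hv, hvu⟩ := hu
    -- h(a+1) - h(a) - h(1)
    have hw : ∀ w ∈ P, ((-w.1, 0, 2 * a ^ 2 * w.2.2) : V F) ∈ P := fun w hw => by
      have h1 := S.sub_mem_pt hP (S.sub_mem_pt hP (hfix c hc w hw) (hfix a ha w hw)) hw
      convert h1 using 1
      ext <;> simp [← hac] <;> ring
    have h1 := hw v hv
    have h2 := S.sub_mem_pt hP (hfix c hc _ h1) h1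
    have hc4 : (c ^ 2) ^ 2 - 1 ≠ 0 := fun e => by
      have : (c ^ 2 - 1) * (c ^ 2 + 1) = 0 := by linear_combination e
      rcases mul_eq_zero.1 this with h | h
      · exact ha (eq_zero_of_pow_eq_zero (show a ^ 2 = 0 by linear_combination hac + h))
      · exact neg_one_nonsquare S.mod4 ⟨c, by linear_combination -h⟩
    have hu0 : ((c ^ 2) ^ 2 - 1) * (2 * a ^ 2 * v.2.2) ≠ 0 :=
      mul_ne_zero hc4 (mul_ne_zero (mul_ne_zero S.two_ne' (pow_ne_zero 2 ha)) hvu)
    let A : AddSubgroup F :=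
      { carrier := {u | ((0, 0, u) : V F) ∈ P}
        add_mem' := fun h h' => by simpa using S.add_mem_pt hP h h'
        zero_mem' := S.zero_mem_pt hP
        neg_mem' := fun h => by simpa using S.sub_mem_pt hP (S.zero_mem_pt hP) h }
    have h0 : ((0, 0, ((c ^ 2) ^ 2 - 1) * (2 * a ^ 2 * v.2.2)) : V F) ∈ P := by
      convert h2 using 1
      ext <;> simp <;> ring
    have hA := mem_of_sq S.mod4 A hu0 (fun m hm => by
      have := hfix m hm _ h0
      simpa [A] using this)
    refine (Set.eq_of_subset_of_ncard_le ?_ ?_ (Set.toFinite _)).symm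
    · rintro _ ⟨u, rfl⟩
      exact hA u
    · rw [hcard, Us, Set.ncard_range_of_injective (fun a b e => by simpa using e),
        Nat.card_eq_fintype_card]

end Setting

end Cfsg.Agent.PSp4Local
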