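import Cfsg.Agent.PSp4Local.Conic

/-!
`GL₂(F)` with the squares acting on symmetric matrices: the group is exactly this image.
-/

set_option autoImplicit false
set_option linter.unusedSimpArgs false
set_option linter.style.haveILetI false
set_option linter.unusedSectionVars false
open scoped Pointwise MatrixGroups

namespace Cfsg.Agent.PSp4Local

variable {F : Type*} [Field F]

/-- The congruence action on symmetric matrices, with a scalar. -/
def qf (M : Matrix (Fin 2) (Fin 2) F) (w : F) (v : V F) : V F :=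
  (w * (M 0 0 ^ 2 * v.1 + 2 * M 0 0 * M 0 1 * v.2.1 + M 0 1 ^ 2 * v.2.2),
   w * (M 0 0 * M 1 0 * v.1 + (M 0 0 * M 1 1 + M 0 1 * M 1 0) * v.2.1 + M 0 1 * M 1 1 * v.2.2),
   w * (M 1 0 ^ 2 * v.1 + 2 * M 1 0 * M 1 1 * v.2.1 + M 1 1 ^ 2 * v.2.2))

theorem qf_qf (M N : Matrix (Fin 2) (Fin 2) F) (w w' : F) (v : V F) :
    qf M w (qf N w' v) = qf (M * N) (w * w') v := by
  ext <;> simp [qf, Matrix.mul_apply, Fin.sum_univ_two] <;> ring

theorem qf_one (v : V F) : qf (1 : Matrix (Fin 2) (Fin 2) F) 1 v = v := by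
  ext <;> simp [qf, Matrix.one_apply]

variable [Fintype F]

/-- The exponent of the determinant. -/
def ee (F : Type*) [Fintype F] : ℕ := (Fintype.card F - 3) / 2

/-- The scalar of an element. -/
def wt : GL (Fin 2) F × sqGrp F →* Fˣ where
  toFun u := (u.2 : Fˣ) * Matrix.GeneralLinearGroup.det u.1 ^ ee F
  map_one' := by simp
  map_mul' u v := by
    simp only [Prod.fst_mul, Prod.snd_mul, map_mul, mul_pow, Subgroup.coe_mul]
    exact mul_mul_mul_comm _ _ _ _

/-- The image of `GL₂` and the squares. -/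
def Psi : GL (Fin 2) F × sqGrp F →* Equiv.Perm (V F) where
  toFun u :=
    { toFun := qf u.1.1 (wt u : F)
      invFun := qf (u⁻¹).1.1 (wt u⁻¹ : F)
      left_inv := fun v => by
        rw [qf_qf, ← Units.val_mul, ← Units.val_mul, ← Prod.fst_mul, ← map_mul, inv_mul_cancel,
          map_one, Prod.fst_one, Units.val_one, Units.val_one, qf_one]
      right_inv := fun v => by
        rw [qf_qf, ← Units.val_mul, ← Units.val_mul, ← Prod.fst_mul, ← map_mul, mul_inv_cancel,
          map_one, Prod.fst_one, Units.val_one, Units.val_one, qf_one] }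
  map_one' := Equiv.ext fun v => by simp [qf_one]
  map_mul' u v := Equiv.ext fun x => by
    simp [Equiv.Perm.mul_apply, qf_qf]

theorem Psi_apply (u : GL (Fin 2) F × sqGrp F) (v : V F) : Psi u v = qf u.1.1 (wt u : F) v := rfl

theorem two_ee (h4 : Fintype.card F % 4 = 3) : 2 * (ee F + 1) = Fintype.card F - 1 := by
  unfold ee; omega

theorem pow_ee (h4 : Fintype.card F % 4 = 3) (s : Fˣ) : (s ^ 2) ^ ee F * s ^ 2 = 1 := by
  classical
  rw [← pow_succ, ← pow_mul, two_ee h4, ← Fintype.card_units, pow_card_eq_one]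

/-- The projection to the abstract group. -/
def proj : GL (Fin 2) F × sqGrp F →* Matrix.ProjGenLinGroup (Fin 2) F × sqGrp F :=
  MonoidHom.prodMap Matrix.ProjGenLinGroup.mk (MonoidHom.id _)

theorem proj_surjective : Function.Surjective (proj (F := F)) :=
  Function.Surjective.prodMap Matrix.ProjGenLinGroup.mk_surjective Function.surjective_id

theorem ker_Psi (h4 : Fintype.card F % 4 = 3) : (Psi (F := F)).ker = (proj (F := F)).ker := by
  ext ⟨g, μ⟩
  simp only [MonoidHom.mem_ker, proj, MonoidHom.prodMap, MonoidHom.prod_apply,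
    MonoidHom.coe_comp, Function.comp_apply, MonoidHom.coe_fst, MonoidHom.coe_snd,
    MonoidHom.id_apply, Prod.mk_eq_one, Matrix.ProjGenLinGroup.mk_eq_one]
  rw [Matrix.GeneralLinearGroup.center_eq_range_scalar]
  constructor
  · intro h
    have e1 := DFunLike.congr_fun h ((1, 0, 0) : V F)
    have e2 := DFunLike.congr_fun h ((0, 0, 1) : V F)
    have e3 := DFunLike.congr_fun h ((0, 1, 0) : V F)
    simp only [Psi_apply, qf, Equiv.Perm.one_apply, Prod.mk.injEq, mul_one, mul_zero, add_zero,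
      zero_add] at e1 e2 e3
    obtain ⟨a1, -, a3⟩ := e1
    obtain ⟨b1, -, b3⟩ := e2
    obtain ⟨-, c2, -⟩ := e3
    have hw : ((wt (g, μ) : Fˣ) : F) ≠ 0 := Units.ne_zero _
    have hc : g.1 1 0 = 0 := by
      rcases mul_eq_zero.1 a3 with h' | h'
      · exact absurd h' hw
      · exact eq_zero_of_pow_eq_zero h'
    have hb : g.1 0 1 = 0 := by
      rcases mul_eq_zero.1 b1 with h' | h'
      · exact absurd h' hw
      · exact eq_zero_of_pow_eq_zero h'
    rw [hb, hc, mul_zero, add_zero] at c2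
    have ha : g.1 0 0 ≠ 0 := fun e => by simp [e] at a1
    have had : g.1 0 0 = g.1 1 1 := by
      have e4 := a1.trans c2.symm
      rw [pow_two] at e4
      exact mul_left_cancel₀ ha (mul_left_cancel₀ hw e4)
    have hg : Matrix.GeneralLinearGroup.scalar (Fin 2) (Units.mk0 _ ha) = g := by
      refine Units.ext (Matrix.ext fun i j => ?_)
      fin_cases i <;> fin_cases j <;> simp [hb, hc, ← had]
    refine ⟨⟨_, hg⟩, Subtype.ext (Units.ext ?_)⟩
    have hdet : Matrix.GeneralLinearGroup.det g = Units.mk0 _ ha ^ 2 := Units.ext (by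
      simp [Matrix.det_fin_two, hb, hc, ← had, pow_two])
    have hp := congrArg Units.val (pow_ee h4 (Units.mk0 _ ha))
    simp only [wt, MonoidHom.coe_mk, OneHom.coe_mk, hdet, Units.val_mul, Units.val_pow_eq_pow_val,
      Units.val_mk0, Units.val_one] at a1 hp
    simp only [OneMemClass.coe_one, Units.val_one]
    linear_combination a1 - ((μ : Fˣ) : F) * hp
  · rintro ⟨⟨s, rfl⟩, rfl⟩
    refine Equiv.ext fun v => ?_
    have hdet : Matrix.GeneralLinearGroup.det (Matrix.GeneralLinearGroup.scalar (Fin 2) s) = s ^ 2 :=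
      Units.ext (by simp [Matrix.det_fin_two, pow_two])
    have hp := congrArg Units.val (pow_ee h4 s)
    simp only [Units.val_mul, Units.val_pow_eq_pow_val, Units.val_one] at hp
    simp only [Psi_apply, Equiv.Perm.one_apply, wt, MonoidHom.coe_mk, OneHom.coe_mk, hdet,
      OneMemClass.coe_one, one_mul, Units.val_pow_eq_pow_val]
    ext <;> simp [qf]
    · linear_combination v.1 * hp
    · linear_combination v.2.1 * hp
    · linear_combination v.2.2 * hp

/-- The image is the abstract group. -/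
noncomputable def rangeIso (h4 : Fintype.card F % 4 = 3) :
    (Psi (F := F)).range ≃* Matrix.ProjGenLinGroup (Fin 2) F × sqGrp F :=
  (QuotientGroup.quotientKerEquivRange (Psi (F := F))).symm.trans
    ((QuotientGroup.quotientMulEquivOfEq (ker_Psi h4)).trans
      (QuotientGroup.quotientKerEquivOfSurjective _ proj_surjective))

theorem card_PGL :
    Nat.card (Matrix.ProjGenLinGroup (Fin 2) F) =
      Fintype.card F * (Fintype.card F - 1) * (Fintype.card F + 1) := by
  have h := Subgroup.card_eq_card_quotient_mul_card_subgroup (Subgroup.center (GL (Fin 2) F))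
  rw [Matrix.card_GL_field] at h
  have hc : Nat.card (Subgroup.center (GL (Fin 2) F)) = Fintype.card F - 1 := by
    rw [Matrix.GeneralLinearGroup.center_eq_range_scalar,
      ← Nat.card_eq_of_bijective _ (MonoidHom.ofInjective (f := Matrix.GeneralLinearGroup.scalar
        (Fin 2) (R := F)) (fun a b e => Units.ext (by
          have := congrArg (fun g : GL (Fin 2) F => g.1 0 0) e
          simpa using this))).bijective, Nat.card_units, Nat.card_eq_fintype_card]
  rw [hc] at h
  have h1 : 1 < Fintype.card F := Fintype.one_lt_card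
  refine Nat.eq_of_mul_eq_mul_right (show 0 < Fintype.card F - 1 by omega) (h.symm.trans ?_)
  simp only [Fin.prod_univ_two, Fin.val_zero, Fin.val_one, pow_zero, pow_one]
  generalize Fintype.card F = q at *
  obtain ⟨m, rfl⟩ := Nat.exists_eq_add_of_le' h1
  simp only [show m + 2 - 1 = m + 1 from rfl]
  rw [show (m + 2) ^ 2 - 1 = (m + 1) * (m + 3) by
      rw [show (m + 2) ^ 2 = (m + 1) * (m + 3) + 1 by ring, Nat.add_sub_cancel],
    show (m + 2) ^ 2 - (m + 2) = (m + 1) * (m + 2) by
      rw [show (m + 2) ^ 2 = (m + 1) * (m + 2) + (m + 2) by ring, Nat.add_sub_cancel]]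
  ring

variable {p n : ℕ} {K : Subgroup (Equiv.Perm (V F))}

namespace Setting

variable (S : Setting p n K)
include S

theorem range_le (hU : Us F ∈ S.Pt) : (Psi (F := F)).range ≤ K := by
  obtain ⟨h, hh, α, β, hα, hβ, hv⟩ := S.exists_h hU
  have hi : ∀ v : V F, h⁻¹ v = ((β ^ 2 / α)⁻¹ * v.2.2, β⁻¹ * v.2.1, α⁻¹ * v.1) := fun v => by
    rw [Equiv.Perm.coe_inv, Equiv.symm_apply_eq, hv]
    ext <;> simp <;> field_simp
  have hsq : ∀ u : GL (Fin 2) F × sqGrp F, ∃ m : Fˣ, wt u = m ^ 2 := fun u => by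
    obtain ⟨k, hk⟩ := u.2.2
    obtain ⟨i, hi⟩ : 2 ∣ ee F := by have := S.mod4; unfold ee; omega
    refine ⟨k * Matrix.GeneralLinearGroup.det u.1 ^ i, ?_⟩
    simp only [wt, MonoidHom.coe_mk, OneHom.coe_mk, mul_pow, ← hk, ← pow_mul, powMonoidHom_apply]
    rw [mul_comm i 2, ← hi]
  rintro _ ⟨⟨g, μ⟩, rfl⟩
  have up : ∀ t : F, ∀ M : GL (Fin 2) F, M.1 = !![1, t; 0, 1] → Psi (M, (1 : sqGrp F)) ∈ K := by
    intro t M hM
    have e : Psi (M, (1 : sqGrp F)) = Yp (-t) := by
      have hdet : Matrix.GeneralLinearGroup.det M = 1 :=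
        Units.ext (by simp [Matrix.det_fin_two, hM])
      refine Equiv.ext fun v => ?_
      simp only [Psi_apply, wt, MonoidHom.coe_mk, OneHom.coe_mk, hdet, one_pow,
        OneMemClass.coe_one, mul_one, Units.val_one, Yp_apply]
      ext <;> simp [qf, hM] <;> ring
    rw [e]; exact S.Y_mem _
  have low : ∀ c : F, ∀ M : GL (Fin 2) F, M.1 = !![1, 0; c, 1] → Psi (M, (1 : sqGrp F)) ∈ K := by
    intro c M hM
    have e : Psi (M, (1 : sqGrp F)) = h * Yp (-(α * c / β)) * h⁻¹ := by
      have hdet : Matrix.GeneralLinearGroup.det M = 1 :=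
        Units.ext (by simp [Matrix.det_fin_two, hM])
      refine Equiv.ext fun v => ?_
      simp only [Psi_apply, wt, MonoidHom.coe_mk, OneHom.coe_mk, hdet, one_pow,
        OneMemClass.coe_one, mul_one, Units.val_one, Equiv.Perm.mul_apply, hi, hv, Yp_apply]
      ext <;> simp [qf, hM] <;> field_simp <;> ring
    rw [e]; exact mul_mem (mul_mem hh (S.Y_mem _)) (inv_mem hh)
  have diag : ∀ a d : F, ∀ M : GL (Fin 2) F, ∀ ν : sqGrp F, M.1 = !![a, 0; 0, d] →
      Psi (M, ν) ∈ K := by
    intro a d M ν hM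
    obtain ⟨m, hm⟩ := hsq (M, ν)
    have hd : a * d ≠ 0 := by
      have := (Matrix.GeneralLinearGroup.det M).ne_zero
      simpa [Matrix.det_fin_two, hM] using this
    have e : Psi (M, ν) = Sn (m * Units.mk0 a (left_ne_zero_of_mul hd)) *
        Tp (m * Units.mk0 d (right_ne_zero_of_mul hd)) := by
      refine Equiv.ext fun v => ?_
      rw [Psi_apply, hm, SnTp_apply]
      ext <;> simp [qf, hM] <;> ring
    rw [e]; exact mul_mem (S.Sn_mem_CB hU _).1.1 (S.T_mem _)
  set δ := Matrix.GeneralLinearGroup.det g with hδ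
  have hval : (δ : F) = g.1 0 0 * g.1 1 1 - g.1 0 1 * g.1 1 0 := by
    rw [hδ]; simp [Matrix.det_fin_two]
  by_cases hc : g.1 1 0 = 0
  · have hd : g.1 0 0 * g.1 1 1 ≠ 0 := by
      have := δ.ne_zero
      rw [hval, hc, mul_zero, sub_zero] at this
      exact this
    have hne := right_ne_zero_of_mul hd
    let U : GL (Fin 2) F := Matrix.GeneralLinearGroup.mkOfDetNeZero !![1, g.1 0 1 / g.1 1 1; 0, 1]
      (by simp [Matrix.det_fin_two])
    let D : GL (Fin 2) F := Matrix.GeneralLinearGroup.mkOfDetNeZero !![g.1 0 0, 0; 0, g.1 1 1]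
      (by simpa [Matrix.det_fin_two] using hd)
    have e : (g, μ) = (U, (1 : sqGrp F)) * (D, μ) := by
      refine Prod.ext (Units.ext (Matrix.ext fun i j => ?_)) (one_mul μ).symm
      fin_cases i <;> fin_cases j <;>
        simp [U, D, Matrix.GeneralLinearGroup.mkOfDetNeZero, Matrix.mul_apply, Fin.sum_univ_two,
          hc, hne]
    rw [e, map_mul]
    exact mul_mem (up _ U rfl) (diag _ _ D μ rfl)
  · let U : GL (Fin 2) F := Matrix.GeneralLinearGroup.mkOfDetNeZero
      !![1, (g.1 0 0 - 1) / g.1 1 0; 0, 1] (by simp [Matrix.det_fin_two])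
    let L : GL (Fin 2) F := Matrix.GeneralLinearGroup.mkOfDetNeZero
      !![1, 0; g.1 1 0, 1] (by simp [Matrix.det_fin_two])
    let D : GL (Fin 2) F := Matrix.GeneralLinearGroup.mkOfDetNeZero
      !![1, 0; 0, (δ : F)] (by simp [Matrix.det_fin_two])
    let W : GL (Fin 2) F := Matrix.GeneralLinearGroup.mkOfDetNeZero
      !![1, (g.1 1 1 - (δ : F)) / g.1 1 0; 0, 1] (by simp [Matrix.det_fin_two])
    have e : (g, μ) = (U, (1 : sqGrp F)) * (L, 1) * (D, μ) * (W, 1) := by
      refine Prod.ext (Units.ext (Matrix.ext fun i j => ?_)) (by simp)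
      fin_cases i <;> fin_cases j <;>
        simp [U, L, D, W, Matrix.GeneralLinearGroup.mkOfDetNeZero, Matrix.mul_apply,
          Fin.sum_univ_two, hval] <;> field_simp <;> ring
    rw [e, map_mul, map_mul, map_mul]
    exact mul_mem (mul_mem (mul_mem (up _ U rfl) (low _ L rfl)) (diag _ _ D μ rfl)) (up _ W rfl)

theorem range_eq (hU : Us F ∈ S.Pt) : (Psi (F := F)).range = K := by
  have hle := S.range_le hU
  refine Subgroup.eq_of_le_of_card_ge hle ?_
  have hR : Nat.card (Psi (F := F)).range = (Fintype.card F + 1) * Nat.card S.Bs := by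
    rw [Nat.card_congr (rangeIso S.mod4).toEquiv, Nat.card_prod, card_PGL, S.card_Bs hU]
    ring
  have hd := Subgroup.card_dvd_of_le hle
  rw [hR, S.card_K, S.ncard_Pt] at hd
  have hB : 0 < Nat.card S.Bs := Nat.card_pos
  have h1 := Nat.dvd_of_mul_dvd_mul_right hB hd
  have hk := S.kk_le
  have hk' := S.kk_pos
  have h2 : Fintype.card F + 1 ∣ S.kk - 1 := by
    have h3 : (Fintype.card F + 1) * S.kk - (1 + Fintype.card F * S.kk) = S.kk - 1 := by
      rw [add_mul, one_mul]; omega
    rw [← h3]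
    exact Nat.dvd_sub (dvd_mul_right _ _) h1
  have hk1 : S.kk = 1 := by
    by_contra hne
    have := Nat.le_of_dvd (by omega) h2
    omega
  rw [hR, S.card_K, S.ncard_Pt, hk1, mul_one, add_comm]

theorem iso_of_mem (hU : Us F ∈ S.Pt) :
    Nonempty (K ≃* (Matrix.ProjGenLinGroup (Fin 2) F ×
      Multiplicative (ZMod ((p ^ n - 1) / 2)))) := by
  have hs : Nat.card (sqGrp F) = Nat.card (Multiplicative (ZMod ((p ^ n - 1) / 2))) := by
    rw [Nat.card_congr Multiplicative.toAdd, Nat.card_zmod, ← S.card]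
    have := card_sqGrp (F := F) S.mod4
    omega
  exact ⟨(MulEquiv.subgroupCongr (S.range_eq hU).symm).trans ((rangeIso S.mod4).trans
    ((MulEquiv.refl _).prodCongr (mulEquivOfCyclicCardEq hs)))⟩

end Setting

end Cfsg.Agent.PSp4Local
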