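import Mathlib

/-!
Finite fields of order `q ≡ 3 (mod 4)`: squares, sums of squares, involutory automorphisms.
-/

set_option autoImplicit false

namespace Cfsg.Agent.PSp4Local

variable {F : Type*} [Field F] [Fintype F]

theorem neg_one_nonsquare (h4 : Fintype.card F % 4 = 3) : ¬ IsSquare (-1 : F) := fun h =>
  (FiniteField.isSquare_neg_one_iff.1 h) h4

theorem ringChar_ne_two (h4 : Fintype.card F % 4 = 3) : ringChar F ≠ 2 := fun h => by
  have := FiniteField.even_card_of_char_two h
  omega

theorem two_ne (h4 : Fintype.card F % 4 = 3) : (2 : F) ≠ 0 :=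
  Ring.two_ne_zero (ringChar_ne_two h4)

theorem square_or_neg (h4 : Fintype.card F % 4 = 3) (x : F) : IsSquare x ∨ IsSquare (-x) := by
  classical
  by_contra h
  push Not at h
  have h1 := quadraticChar_neg_one_iff_not_isSquare.2 h.1
  have h2 := quadraticChar_neg_one_iff_not_isSquare.2 h.2
  have h3 := quadraticChar_neg_one_iff_not_isSquare.2 (neg_one_nonsquare h4)
  rw [show -x = -1 * x by ring, map_mul, h1, h3] at h2
  norm_num at h2

theorem exists_sum_sq (h4 : Fintype.card F % 4 = 3) (d : F) : ∃ a b : F, a ^ 2 + b ^ 2 = d := by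
  obtain ⟨a, b, hab⟩ := FiniteField.exists_root_sum_quadratic (R := F)
    (Polynomial.degree_X_pow 2) (Polynomial.degree_X_pow_sub_C (by decide) d) (by omega)
  refine ⟨a, b, ?_⟩
  simp only [Polynomial.eval_pow, Polynomial.eval_X, Polynomial.eval_sub, Polynomial.eval_C] at hab
  linear_combination hab

/-- A square is a square of a square. -/
theorem exists_sq_sq (h4 : Fintype.card F % 4 = 3) (a : F) : ∃ m : F, a ^ 2 = (m ^ 2) ^ 2 := by
  rcases square_or_neg h4 a with ⟨m, hm⟩ | ⟨m, hm⟩
  · exact ⟨m, by rw [hm]; ring⟩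
  · exact ⟨m, by rw [show a ^ 2 = (-a) ^ 2 by ring, hm]; ring⟩

/-- An additive subgroup closed under multiplication by nonzero squares of squares. -/
theorem mem_of_sq (h4 : Fintype.card F % 4 = 3) (A : AddSubgroup F) {x : F} (hx : x ≠ 0)
    (h : ∀ m : F, m ≠ 0 → (m ^ 2) ^ 2 * x ∈ A) (y : F) : y ∈ A := by
  obtain ⟨a, b, hab⟩ := exists_sum_sq h4 (y / x)
  have key : ∀ c : F, c ^ 2 * x ∈ A := fun c => by
    by_cases hc : c = 0
    · simp [hc, A.zero_mem]
    · obtain ⟨m, hm⟩ := exists_sq_sq h4 c
      rw [hm]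
      refine h m fun hm0 => hc ?_
      simpa [hm0] using hm
  have : y = a ^ 2 * x + b ^ 2 * x := by rw [← add_mul, hab, div_mul_cancel₀ _ hx]
  rw [this]
  exact A.add_mem (key a) (key b)

/-- Two consecutive nonzero squares. -/
theorem exists_consecutive (h4 : Fintype.card F % 4 = 3) (h5 : 5 < Fintype.card F) :
    ∃ a c : F, a ≠ 0 ∧ c ≠ 0 ∧ a ^ 2 + 1 = c ^ 2 := by
  classical
  obtain ⟨g, hg⟩ := IsCyclic.exists_ofOrder_eq_natCard (α := Fˣ)
  have hord : orderOf g = Fintype.card F - 1 := by
    rw [hg, Nat.card_eq_fintype_card, Fintype.card_units]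
  have h4g : g ^ 4 ≠ 1 := fun h => by
    have := Nat.le_of_dvd (by norm_num) (orderOf_dvd_of_pow_eq_one h)
    omega
  set r : F := (g : F) with hr
  have hr0 : r ≠ 0 := g.ne_zero
  have hr4 : r ^ 4 ≠ 1 := fun h => h4g (Units.ext (by simpa [hr] using h))
  have h2 := two_ne h4
  refine ⟨(r - r⁻¹) / 2, (r + r⁻¹) / 2, ?_, ?_, by field_simp; ring⟩
  · intro h
    apply hr4
    rw [div_eq_zero_iff] at h
    rcases h with h | h
    · have : r ^ 2 = 1 := by field_simp at h; linear_combination h
      rw [show r ^ 4 = (r ^ 2) ^ 2 by ring, this, one_pow]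
    · exact absurd h h2
  · intro h
    apply hr4
    rw [div_eq_zero_iff] at h
    rcases h with h | h
    · have : r ^ 2 = -1 := by field_simp at h; linear_combination h
      rw [show r ^ 4 = (r ^ 2) ^ 2 by ring, this]; ring
    · exact absurd h h2

/-- No involutory field automorphism. -/
theorem ringEquiv_eq_refl (h4 : Fintype.card F % 4 = 3) (σ : F ≃+* F) (h : ∀ x, σ (σ x) = x)
    (x : F) : σ x = x := by
  classical
  by_contra hx
  have h2 := two_ne h4
  set e : F := σ x - x with he
  have he0 : e ≠ 0 := sub_ne_zero.2 hx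
  have hσe : σ e = -e := by rw [he, map_sub, h]; ring
  let P := {y : F // σ y = y}
  let f : P × P → F := fun u => u.1.1 + e * u.2.1
  have hf : Function.Bijective f := by
    constructor
    · rintro ⟨⟨a, ha⟩, b, hb⟩ ⟨⟨c, hc⟩, d, hd⟩ h'
      simp only [f] at h'
      have h'' := congrArg σ h'
      simp only [map_add, map_mul, ha, hb, hc, hd, hσe] at h''
      have h3 : 2 * (a - c) = 0 := by linear_combination h' + h''
      have hac : a = c := by
        rcases mul_eq_zero.1 h3 with h3 | h3
        · exact absurd h3 h2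
        · exact sub_eq_zero.1 h3
      have h5 : e * (b - d) = 0 := by rw [hac] at h'; linear_combination h'
      have hbd : b = d := by
        rcases mul_eq_zero.1 h5 with h5 | h5
        · exact absurd h5 he0
        · exact sub_eq_zero.1 h5
      subst hac; subst hbd; rfl
    · intro y
      refine ⟨(⟨(y + σ y) / 2, ?_⟩, ⟨(y - σ y) / (2 * e), ?_⟩), ?_⟩
      · rw [map_div₀, map_add, h, map_ofNat]; ring
      · rw [map_div₀, map_sub, h, map_mul, map_ofNat, hσe]
        field_simp
        ring
      · simp only [f]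
        field_simp
        ring
  have hc := Fintype.card_of_bijective hf
  rw [Fintype.card_prod] at hc
  rw [← hc, Nat.mul_mod] at h4
  have : Fintype.card P % 4 < 4 := Nat.mod_lt _ (by norm_num)
  interval_cases (Fintype.card P % 4) <;> simp at h4

end Cfsg.Agent.PSp4Local
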