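import Mathlib
import Cfsg.Prelude.Def_Classical
import Cfsg.Agent.Cent648.Model
import Cfsg.Agent.Classical.SympGroup

/-!
The centraliser of a transvection in `Sp₄(F)` as Heisenberg by `SL₂`, its unipotent radical and
the centraliser of a central element of a Sylow subgroup in `PSp₄(F)`.
-/

set_option autoImplicit false
set_option linter.unusedSimpArgs false
set_option linter.style.haveILetI false
set_option linter.unusedSectionVars false

namespace Cfsg.Agent.PSp4Local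

open Matrix Cfsg.Agent.Cent648
open scoped MatrixGroups Pointwise

variable {F : Type*} [Field F]

/-- The symplectic group of dimension four. -/
abbrev Sp4 (F : Type*) [Field F] := ↥(Matrix.symplecticGroup (Fin 2) F)

/-- The element with given parameters. -/
def hlS (a b c : F) (N : SL(2, F)) : Sp4 F :=
  ⟨heis a b c * levi N.1, mul_mem (heis_mem _ _ _) (levi_mem _ N.2)⟩

theorem hlS_mul (a b c a' b' c' : F) (N N' : SL(2, F)) :
    hlS a b c N * hlS a' b' c' N' =
      hlS (a + (N.1 0 0 * a' + N.1 0 1 * b')) (b + (N.1 1 0 * a' + N.1 1 1 * b'))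
        (c + c' + a * (N.1 1 0 * a' + N.1 1 1 * b') - b * (N.1 0 0 * a' + N.1 0 1 * b'))
        (N * N') := by
  refine Subtype.ext ?_
  show heis a b c * levi N.1 * (heis a' b' c' * levi N'.1) = _
  rw [Matrix.mul_assoc, ← Matrix.mul_assoc (levi N.1), levi_heis N.1 N.2, Matrix.mul_assoc,
    levi_mul, ← Matrix.mul_assoc, heis_mul]
  rfl

theorem hlS_one : hlS (0 : F) 0 0 1 = 1 :=
  Subtype.ext (by
    show heis (0 : F) 0 0 * levi ((1 : SL(2, F)).1) = 1
    rw [heis_zero, Matrix.SpecialLinearGroup.coe_one, levi_one, mul_one])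

/-- The stabiliser of the first basis vector. -/
def St (F : Type*) [Field F] : Subgroup (Sp4 F) where
  carrier := {g | ∃ a b c N, g = hlS a b c N}
  one_mem' := ⟨0, 0, 0, 1, hlS_one.symm⟩
  mul_mem' := by
    rintro _ _ ⟨a, b, c, N, rfl⟩ ⟨a', b', c', N', rfl⟩
    exact ⟨_, _, _, _, hlS_mul a b c a' b' c' N N'⟩
  inv_mem' := by
    rintro _ ⟨a, b, c, N, rfl⟩
    refine ⟨-((N⁻¹).1 0 0 * a + (N⁻¹).1 0 1 * b), -((N⁻¹).1 1 0 * a + (N⁻¹).1 1 1 * b), -c, N⁻¹,
      inv_eq_of_mul_eq_one_left ?_⟩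
    rw [hlS_mul, inv_mul_cancel, ← hlS_one]
    congr 1 <;> ring

/-- The element of the stabiliser with given parameters. -/
def hl (a b c : F) (N : SL(2, F)) : St F := ⟨hlS a b c N, a, b, c, N, rfl⟩

theorem hl_surj (g : St F) : ∃ a b c N, g = hl a b c N := by
  obtain ⟨_, a, b, c, N, rfl⟩ := g
  exact ⟨a, b, c, N, rfl⟩

theorem hl_mul (a b c a' b' c' : F) (N N' : SL(2, F)) :
    hl a b c N * hl a' b' c' N' =
      hl (a + (N.1 0 0 * a' + N.1 0 1 * b')) (b + (N.1 1 0 * a' + N.1 1 1 * b'))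
        (c + c' + a * (N.1 1 0 * a' + N.1 1 1 * b') - b * (N.1 0 0 * a' + N.1 0 1 * b'))
        (N * N') :=
  Subtype.ext (hlS_mul a b c a' b' c' N N')

theorem hl_one : hl (0 : F) 0 0 1 = 1 := Subtype.ext hlS_one

theorem hl_inj {a b c a' b' c' : F} {N N' : SL(2, F)} (h : hl a b c N = hl a' b' c' N') :
    a = a' ∧ b = b' ∧ c = c' ∧ N = N' := by
  obtain ⟨h1, h2, h3, h4⟩ := params (congrArg (fun g : St F => g.1.1) h)
  exact ⟨h1, h2, h3, Subtype.ext h4⟩

/-- An upper unitriangular matrix. -/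
def uu (d : F) : SL(2, F) := ⟨!![1, d; 0, 1], by simp [Matrix.det_fin_two]⟩

theorem uu_val (d : F) : (uu d).1 = !![1, d; 0, 1] := rfl

theorem uu_mul (d d' : F) : uu d * uu d' = uu (d + d') := Subtype.ext (by
  rw [Matrix.SpecialLinearGroup.coe_mul, uu_val, uu_val, uu_val]
  ext i j; fin_cases i <;> fin_cases j <;> simp [Matrix.mul_apply, Fin.sum_univ_two, add_comm])

theorem uu_zero : uu (0 : F) = 1 := Subtype.ext (by
  rw [uu_val, Matrix.SpecialLinearGroup.coe_one]
  ext i j; fin_cases i <;> fin_cases j <;> simp)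

theorem uu_inj {d d' : F} (h : uu d = uu d') : d = d' := by
  simpa [uu_val] using congrArg (fun N : SL(2, F) => N.1 0 1) h

/-- A diagonal matrix. -/
def dd (l : Fˣ) : SL(2, F) := ⟨!![(l : F), 0; 0, ((l⁻¹ : Fˣ) : F)], by simp [Matrix.det_fin_two]⟩

theorem dd_val (l : Fˣ) : (dd l).1 = !![(l : F), 0; 0, ((l⁻¹ : Fˣ) : F)] := rfl

theorem eq_uu {N : SL(2, F)} (h00 : N.1 0 0 = 1) (h10 : N.1 1 0 = 0) : N = uu (N.1 0 1) := by
  have h := N.2
  rw [Matrix.det_fin_two, h00, h10] at h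
  refine Subtype.ext (Matrix.ext fun i j => ?_)
  simp at h
  fin_cases i <;> fin_cases j <;> simp [uu_val, h00, h10, h]

theorem hl_center (a b c : F) (N : SL(2, F)) (e : F) :
    hl a b c N * hl 0 0 e 1 = hl 0 0 e 1 * hl a b c N := by
  rw [hl_mul, hl_mul]
  simp [add_comm]

/-- The unipotent radical of the Borel group. -/
def U4 (F : Type*) [Field F] : Subgroup (St F) where
  carrier := {g | ∃ a b c d, g = hl a b c (uu d)}
  one_mem' := ⟨0, 0, 0, 0, by rw [uu_zero, hl_one]⟩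
  mul_mem' := by
    rintro _ _ ⟨a, b, c, d, rfl⟩ ⟨a', b', c', d', rfl⟩
    exact ⟨_, _, _, d + d', by rw [hl_mul, uu_mul]⟩
  inv_mem' := by
    rintro _ ⟨a, b, c, d, rfl⟩
    refine ⟨-(a - d * b), -b, -c, -d, inv_eq_of_mul_eq_one_left ?_⟩
    rw [hl_mul, uu_mul, neg_add_cancel d, uu_zero, ← hl_one]
    congr 1 <;> simp [uu_val] <;> ring

theorem card_U4 [Fintype F] : Nat.card (U4 F) = Fintype.card F ^ 4 := by
  rw [← Nat.card_eq_of_bijective
    (fun v : F × F × F × F => (⟨hl v.1 v.2.1 v.2.2.1 (uu v.2.2.2), _, _, _, _, rfl⟩ : U4 F))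
    ⟨fun v w e => by
      obtain ⟨h1, h2, h3, h4⟩ := hl_inj (congrArg Subtype.val e)
      exact Prod.ext h1 (Prod.ext h2 (Prod.ext h3 (uu_inj h4))),
    fun ⟨g, a, b, c, d, e⟩ => ⟨(a, b, c, d), Subtype.ext e.symm⟩⟩]
  rw [Nat.card_prod, Nat.card_prod, Nat.card_prod, Nat.card_eq_fintype_card]
  ring

/-- Two commuting elements of the radical. -/
theorem U4_comm {a b c d a' b' c' d' : F}
    (h : hl a b c (uu d) * hl a' b' c' (uu d') = hl a' b' c' (uu d') * hl a b c (uu d)) :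
    d * b' = d' * b ∧ 2 * (a * b' - b * a') = b * b' * (d - d') := by
  rw [hl_mul, hl_mul] at h
  obtain ⟨h1, -, h3, -⟩ := hl_inj h
  simp [uu_val] at h1 h3
  exact ⟨by linear_combination h1, by linear_combination h3⟩

theorem U4_center (h2 : (2 : F) ≠ 0) {g : St F} (hg : g ∈ U4 F)
    (h : ∀ y ∈ U4 F, y * g = g * y) : ∃ c, g = hl 0 0 c 1 := by
  obtain ⟨a, b, c, d, rfl⟩ := hg
  obtain ⟨h1, h1'⟩ := U4_comm (h (hl 0 1 0 (uu 0)) ⟨_, _, _, _, rfl⟩).symm
  obtain ⟨h3, -⟩ := U4_comm (h (hl 0 0 0 (uu 1)) ⟨_, _, _, _, rfl⟩).symm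
  simp at h1 h1' h3
  have hb : b = 0 := h3.symm
  subst hb h1
  have ha : a = 0 := by
    have : (2 : F) * a = 0 := by linear_combination h1'
    exact (mul_eq_zero.1 this).resolve_left h2
  exact ⟨c, by rw [ha, uu_zero]⟩

section Projective

variable [Fintype F] {p n : ℕ}

theorem neg_one_mem : (-1 : Matrix (Fin 2 ⊕ Fin 2) (Fin 2 ⊕ Fin 2) F) ∈
    Matrix.symplecticGroup (Fin 2) F := by
  rw [SymplecticGroup.mem_iff]
  simp

theorem center_cases (h2 : (2 : F) ≠ 0) {ζ : Sp4 F} (hζ : ζ ∈ Subgroup.center (Sp4 F)) :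
    ζ = 1 ∨ ζ = ⟨-1, neg_one_mem⟩ := by
  have hcard : Nat.card (Subgroup.center (Sp4 F)) = 2 := by
    rw [Classical.card_center_symplectic (by norm_num)]
    have h1 : ringChar F ≠ 2 := fun e => h2 (by
      haveI := ringChar.of_eq e
      exact CharTwo.two_eq_zero)
    have := FiniteField.odd_card_of_char_ne_two h1
    exact Nat.gcd_eq_left (by omega)
  have hm : (⟨-1, neg_one_mem⟩ : Sp4 F) ∈ Subgroup.center (Sp4 F) :=
    Subgroup.mem_center_iff.2 fun g => Subtype.ext (by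
      show g.1 * (-1) = (-1) * g.1
      simp)
  by_contra hne
  push Not at hne
  have hne1 : (⟨-1, neg_one_mem⟩ : Sp4 F) ≠ 1 := fun e => h2 (by
    have := congrArg (fun g : Sp4 F => g.1 (Sum.inl 0) (Sum.inl 0)) e
    simp at this
    linear_combination -this)
  have hc3 := Set.ncard_le_ncard (s := {1, ⟨-1, neg_one_mem⟩, ζ})
    (t := (Subgroup.center (Sp4 F) : Set (Sp4 F))) (by
      rintro x (rfl | rfl | rfl)
      · exact one_mem _
      · exact hm
      · exact hζ) (Set.toFinite _)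
  rw [Set.ncard_insert_of_notMem (by simp [hne1.symm, hne.1.symm]) (Set.toFinite _),
    Set.ncard_pair hne.2.symm, ← Nat.card_coe_set_eq] at hc3
  exact absurd (hcard ▸ hc3) (by norm_num)

theorem pow_of_center (h2 : (2 : F) ≠ 0) (hp : Odd p) {ζ : Sp4 F}
    (hζ : ζ ∈ Subgroup.center (Sp4 F)) (h : ζ ^ p = 1) : ζ = 1 := by
  rcases center_cases h2 hζ with e | e
  · exact e
  · exfalso
    rw [e] at h
    have := congrArg (fun g : Sp4 F => g.1 (Sum.inl 0) (Sum.inl 0)) h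
    simp [hp.neg_one_pow] at this
    exact h2 (by linear_combination -this)

/-- The centraliser of a transvection. -/
theorem centralizer_hl (h2 : (2 : F) ≠ 0) {e : F} (he : e ≠ 0) {A : Sp4 F}
    (h : A * (hl 0 0 e 1).1 = (hl 0 0 e 1).1 * A) :
    ∃ g : St F, A = g.1 ∨ A = ⟨-1, neg_one_mem⟩ * g.1 := by
  have hm : A.1 * heis 0 0 e = heis 0 0 e * A.1 := by
    have := congrArg Subtype.val h
    simpa [hl, hlS, levi_one, ← Matrix.mul_assoc] using this
  have ee := fun i j => congrFun (congrFun hm i) j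
  have h10 := ee (Sum.inl 1) (Sum.inr 0)
  have h30 := ee (Sum.inr 1) (Sum.inr 0)
  have h20 := ee (Sum.inl 0) (Sum.inl 0)
  have h00 := ee (Sum.inl 0) (Sum.inr 0)
  simp [heis, Matrix.mul_apply, Fintype.sum_sum_type, Fin.sum_univ_two, he] at h10 h20 h30 h00
  have hA := A.2
  rw [SymplecticGroup.mem_iff'] at hA
  have p02 := congrFun (congrFun hA (Sum.inl 0)) (Sum.inr 0)
  simp [Matrix.J, Matrix.mul_apply, Fintype.sum_sum_type, Fin.sum_univ_two, h10, h20, h30] at p02
  have hrr : A.1 (Sum.inr 0) (Sum.inr 0) = A.1 (Sum.inl 0) (Sum.inl 0) := by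
    have : e * A.1 (Sum.inr 0) (Sum.inr 0) = e * A.1 (Sum.inl 0) (Sum.inl 0) := by
      linear_combination -h00
    exact mul_left_cancel₀ he this
  rw [hrr] at p02
  have key : ∀ B : Sp4 F, B.1 (Sum.inl 0) (Sum.inl 0) = 1 → B.1 (Sum.inl 1) (Sum.inl 0) = 0 →
      B.1 (Sum.inr 0) (Sum.inl 0) = 0 → B.1 (Sum.inr 1) (Sum.inl 0) = 0 →
      ∃ g : St F, B = g.1 := fun B e0 e1 e2 e3 => by
    obtain ⟨a, b, c, N, hN, e⟩ := exists_params B.2 e0 e1 e2 e3
    exact ⟨hl a b c ⟨N, hN⟩, Subtype.ext e⟩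
  rcases mul_self_eq_one_iff.1 (show A.1 (Sum.inl 0) (Sum.inl 0) * A.1 (Sum.inl 0) (Sum.inl 0) = 1
    by linear_combination p02) with e0 | e0
  · obtain ⟨g, hg⟩ := key A e0 h10 h20 h30
    exact ⟨g, Or.inl hg⟩
  · obtain ⟨g, hg⟩ := key (⟨-1, neg_one_mem⟩ * A) (by simp [e0]) (by simp [h10]) (by simp [h20])
      (by simp [h30])
    refine ⟨g, Or.inr ?_⟩
    rw [← hg, ← mul_assoc]
    refine Subtype.ext ?_
    simp

theorem sylow_card [Fact p.Prime] (hn : 1 ≤ n) (hF : Fintype.card F = p ^ n) (hp : p ≠ 2) :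
    Nat.card ((U4 F).map (St F).subtype) = p ^ (Nat.card (Sp4 F)).factorization p := by
  rw [Subgroup.card_map_of_injective (St F).subtype_injective, card_U4,
    Classical.card_symplecticGroup hF 2]
  have hp' : p.Prime := Fact.out
  have hq : ∀ k, 1 ≤ k → ¬ p ∣ (p ^ n) ^ k - 1 := fun k hk h => by
    have h1 : p ∣ (p ^ n) ^ k := dvd_pow (dvd_pow_self p (by omega)) (by omega)
    have h2 : 1 ≤ (p ^ n) ^ k := Nat.one_le_pow _ _ (pow_pos hp'.pos n)
    have := Nat.dvd_sub h1 h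
    rw [show (p ^ n) ^ k - ((p ^ n) ^ k - 1) = 1 by omega] at this
    exact hp'.one_lt.ne' (Nat.dvd_one.1 this)
  simp only [Finset.prod_range_succ, Finset.prod_range_zero, one_mul]
  have hne : ∀ k, 1 ≤ k → (p ^ n) ^ k - 1 ≠ 0 := fun k hk h => hq k hk (h ▸ dvd_zero p)
  rw [Nat.factorization_mul (pow_ne_zero _ (pow_ne_zero _ hp'.pos.ne'))
      (mul_ne_zero (hne _ (by norm_num)) (hne _ (by norm_num))),
    Finsupp.add_apply, Nat.factorization_mul (hne _ (by norm_num)) (hne _ (by norm_num)),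
    Finsupp.add_apply, Nat.factorization_eq_zero_of_not_dvd (hq _ (by norm_num)),
    Nat.factorization_eq_zero_of_not_dvd (hq _ (by norm_num)), hF, ← pow_mul, ← pow_mul,
    hp'.factorization_pow, Finsupp.single_eq_same]
  norm_num

/-- The centraliser of an element of order `p` central in a Sylow subgroup of `PSp₄(F)`. -/
theorem exists_model [Fact p.Prime] (hn : 1 ≤ n) (hF : Fintype.card F = p ^ n) (hp : p ≠ 2)
    (h2 : (2 : F) ≠ 0) (x : Cfsg.PSp 2 F) (hx : orderOf x = p) (Px : Sylow p (Cfsg.PSp 2 F))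
    (hxP : x ∈ (Px : Subgroup (Cfsg.PSp 2 F)))
    (hxc : ∀ y ∈ (Px : Subgroup (Cfsg.PSp 2 F)), y * x = x * y) :
    Nonempty (St F ≃* Subgroup.centralizer ({x} : Set (Cfsg.PSp 2 F))) := by
  have hp' : p.Prime := Fact.out
  have hodd : Odd p := hp'.odd_of_ne_two hp
  set π := QuotientGroup.mk' (Subgroup.center (Sp4 F))
  let S0 : Sylow p (Sp4 F) := Sylow.ofCard _ (sylow_card hn hF hp)
  let S1 : Sylow p (Cfsg.PSp 2 F) := S0.mapSurjective (QuotientGroup.mk'_surjective _)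
  obtain ⟨g, hg⟩ := MulAction.exists_smul_eq (Cfsg.PSp 2 F) Px S1
  have hg' : ∀ y ∈ (Px : Subgroup (Cfsg.PSp 2 F)), g * y * g⁻¹ ∈ (S1 : Subgroup _) := by
    intro y hy
    rw [← hg, Sylow.coe_subgroup_smul]
    have := Subgroup.smul_mem_pointwise_smul y (MulAut.conj g) _ hy
    rw [MulAut.smul_def, MulAut.conj_apply] at this
    exact this
  obtain ⟨u0, hu0, hu⟩ := Subgroup.mem_map.1 (show g * x * g⁻¹ ∈
    ((S0 : Subgroup (Sp4 F)).map π) from hg' x hxP)
  obtain ⟨u, huU, rfl⟩ := Subgroup.mem_map.1 (show u0 ∈ (U4 F).map (St F).subtype from hu0)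
  have hpow : ∀ v ∈ (S0 : Subgroup (Sp4 F)), ∃ k, v ^ p ^ k = 1 := fun v hv => by
    obtain ⟨k, hk⟩ := S0.isPGroup' ⟨v, hv⟩
    exact ⟨k, by simpa using congrArg Subtype.val hk⟩
  have hinjP : ∀ v ∈ (S0 : Subgroup (Sp4 F)), v ∈ Subgroup.center (Sp4 F) → v = 1 := fun v hv hc => by
    obtain ⟨k, hk⟩ := hpow v hv
    exact pow_of_center h2 (hodd.pow) hc hk
  have hucomm : ∀ y ∈ U4 F, y * u = u * y := fun y hy => by
    have hy' : y.1 ∈ (S0 : Subgroup (Sp4 F)) :=
      show y.1 ∈ (U4 F).map (St F).subtype from ⟨y, hy, rfl⟩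
    have h1 : π (y.1 * u.1 * (y.1)⁻¹ * (u.1)⁻¹) = 1 := by
      have hym : π y.1 ∈ (S1 : Subgroup _) := ⟨y.1, hy', rfl⟩
      rw [← hg, Sylow.coe_subgroup_smul, Subgroup.mem_pointwise_smul_iff_inv_smul_mem] at hym
      have := hxc _ hym
      rw [← map_inv, MulAut.smul_def, MulAut.conj_apply, inv_inv] at this
      rw [map_mul, map_mul, map_mul, map_inv, map_inv]
      change π u.1 = g * x * g⁻¹ at hu
      rw [hu]
      calc π y.1 * (g * x * g⁻¹) * (π y.1)⁻¹ * (g * x * g⁻¹)⁻¹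
          = g * (g⁻¹ * π y.1 * g * x) * g⁻¹ * (π y.1)⁻¹ * (g * x * g⁻¹)⁻¹ := by group
        _ = g * (x * (g⁻¹ * π y.1 * g)) * g⁻¹ * (π y.1)⁻¹ * (g * x * g⁻¹)⁻¹ := by rw [this]
        _ = 1 := by group
    have h3 : y.1 * u.1 * (y.1)⁻¹ * (u.1)⁻¹ = 1 := hinjP _
      (mul_mem (mul_mem (mul_mem hy' hu0) (inv_mem hy')) (inv_mem hu0))
      ((QuotientGroup.eq_one_iff _).1 h1)
    exact Subtype.ext (mul_inv_eq_iff_eq_mul.1 (mul_inv_eq_one.1 h3))
  obtain ⟨e, rfl⟩ := U4_center h2 huU hucomm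
  have he : e ≠ 0 := by
    rintro rfl
    rw [hl_one] at hu
    simp only [map_one, OneMemClass.coe_one, Subgroup.coe_subtype] at hu
    have : x = 1 := by
      calc x = g⁻¹ * (g * x * g⁻¹) * g := by group
        _ = 1 := by rw [← hu]; group
    rw [this, orderOf_one] at hx
    exact hp'.one_lt.ne hx
  change π (hl 0 0 e 1).1 = g * x * g⁻¹ at hu
  let f : St F →* Cfsg.PSp 2 F :=
    ((MulAut.conj g⁻¹).toMonoidHom.comp π).comp (St F).subtype
  have hf : Function.Injective f := by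
    refine (injective_iff_map_eq_one f).2 fun a ha => ?_
    have h1 : π a.1 = 1 := (map_eq_one_iff _ (MulAut.conj g⁻¹).injective).1 ha
    have h1' := (QuotientGroup.eq_one_iff _).1 h1
    rcases center_cases h2 h1' with e1 | e1
    · exact Subtype.ext e1
    · exfalso
      obtain ⟨a0, b0, c0, N, rfl⟩ := hl_surj a
      have := congrArg (fun g : Sp4 F => g.1 (Sum.inl 0) (Sum.inl 0)) e1
      simp [hl, hlS, heis, levi, Matrix.mul_apply, Fin.sum_univ_two] at this
      exact h2 (by linear_combination this)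
  have hrange : f.range = Subgroup.centralizer ({x} : Set (Cfsg.PSp 2 F)) := by
    ext y
    rw [Subgroup.mem_centralizer_singleton_iff]
    constructor
    · rintro ⟨a, rfl⟩
      obtain ⟨a0, b0, c0, N, rfl⟩ := hl_surj a
      have h1 := congrArg (fun t : St F => π t.1) (hl_center a0 b0 c0 N e)
      simp only [Subgroup.coe_mul, map_mul, hu] at h1
      simp only [f, MonoidHom.comp_apply, MulEquiv.coe_toMonoidHom, MulAut.conj_apply,
        Subgroup.coe_subtype, inv_inv]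
      calc g⁻¹ * π (hl a0 b0 c0 N).1 * g * x
          = g⁻¹ * (π (hl a0 b0 c0 N).1 * (g * x * g⁻¹)) * g := by group
        _ = x * (g⁻¹ * π (hl a0 b0 c0 N).1 * g) := by rw [h1]; group
    · intro hy
      obtain ⟨A, hA⟩ := QuotientGroup.mk'_surjective (Subgroup.center (Sp4 F)) (g * y * g⁻¹)
      have hA' : π A = g * y * g⁻¹ := hA
      have hc : π (A * (hl 0 0 e 1).1 * A⁻¹ * ((hl 0 0 e 1).1)⁻¹) = 1 := by
        rw [map_mul, map_mul, map_mul, map_inv, map_inv, hA', hu]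
        calc g * y * g⁻¹ * (g * x * g⁻¹) * (g * y * g⁻¹)⁻¹ * (g * x * g⁻¹)⁻¹
            = g * (y * x) * y⁻¹ * x⁻¹ * g⁻¹ := by group
          _ = 1 := by rw [hy]; group
      have hc' := (QuotientGroup.eq_one_iff _).1 hc
      set ζ := A * (hl 0 0 e 1).1 * A⁻¹ * ((hl 0 0 e 1).1)⁻¹ with hζ
      have hep : (hl 0 0 e 1).1 ^ p = 1 := by
        haveI := charP_of_card_eq_prime_pow hF
        have : ∀ k : ℕ, (hl 0 0 e 1) ^ k = hl 0 0 ((k : F) * e) 1 := by
          intro k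
          induction k with
          | zero => simp [hl_one]
          | succ k ih => rw [pow_succ, ih, hl_mul]; simp; ring_nf
        rw [← Subgroup.coe_pow, this, CharP.cast_eq_zero, zero_mul, hl_one, OneMemClass.coe_one]
      have hζp : ζ ^ p = 1 := by
        have h4 : A * (hl 0 0 e 1).1 * A⁻¹ = ζ * (hl 0 0 e 1).1 := by rw [hζ]; group
        have h5 := congrArg (· ^ p) h4
        simp only [conj_pow, hep, mul_one, mul_inv_cancel] at h5
        rw [Commute.mul_pow ((Subgroup.mem_center_iff.1 hc' _).symm : Commute ζ _), hep,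
          mul_one] at h5
        exact h5.symm
      have hcm := pow_of_center h2 hodd hc' hζp
      rw [hζ, mul_inv_eq_one, mul_inv_eq_iff_eq_mul] at hcm
      obtain ⟨a, ha⟩ := centralizer_hl h2 he hcm
      refine ⟨a, ?_⟩
      have hπ : π A = π a.1 := by
        rcases ha with rfl | rfl
        · rfl
        · rw [map_mul, show π ⟨-1, neg_one_mem⟩ = 1 from (QuotientGroup.eq_one_iff _).2
            (Subgroup.mem_center_iff.2 fun g => Subtype.ext (by
              show g.1 * (-1) = (-1) * g.1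
              simp)), one_mul]
      simp only [f, MonoidHom.comp_apply, MulEquiv.coe_toMonoidHom, MulAut.conj_apply,
        Subgroup.coe_subtype, inv_inv, ← hπ, hA']
      group
  exact ⟨(MonoidHom.ofInjective hf).trans (MulEquiv.subgroupCongr hrange)⟩

end Projective

end Cfsg.Agent.PSp4Local
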