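import Cfsg.Agent.PSp4Local.Count

/-!
The squares of the torus acting on the points fixed by the involution, and on the orbits of the
unipotent group.
-/

set_option autoImplicit false
set_option linter.unusedSimpArgs false
set_option linter.style.haveILetI false
set_option linter.unusedSectionVars false
open scoped Pointwise

namespace Cfsg.Agent.PSp4Local

variable {F : Type*} [Field F] [Fintype F] {p n : ℕ} {K : Subgroup (Equiv.Perm (V F))}

/-- A nontrivial square has nontrivial square. -/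
theorem sq_ne_one (h4 : Fintype.card F % 4 = 3) {l : Fˣ} (hl : l ∈ sqGrp F) (h : l ≠ 1) :
    (l : F) ^ 2 ≠ 1 := by
  intro h2
  rcases sq_eq_one_iff.1 h2 with h' | h'
  · exact h (Units.ext h')
  · obtain ⟨m, rfl⟩ := hl
    exact neg_one_nonsquare h4 ⟨m, by rw [← h']; simp [pow_two]⟩

theorem odd_sqGrp (h4 : Fintype.card F % 4 = 3) : Odd (Nat.card (sqGrp F)) := by
  have := card_sqGrp h4
  rw [Nat.odd_iff]
  omega

namespace Setting

variable (S : Setting p n K)
include S

theorem coprime_q {m : ℕ} (hm : ¬ p ∣ m) : Nat.Coprime m (Fintype.card F) := by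
  rw [S.card]
  exact Nat.Coprime.pow_right _ ((Nat.Prime.coprime_iff_not_dvd S.hp).2 hm).symm

theorem F0_dvd' : S.F0.ncard + 1 ∣ 1 + Fintype.card F * S.kk :=
  (S.coprime_q S.not_dvd_F0).dvd_of_dvd_mul_right S.F0_dvd

theorem F0_T {P : Set (V F)} (hP : P ∈ S.F0) (l : Fˣ) : Tp l '' P ∈ S.F0 := by
  refine ⟨S.image_mem hP.1 (S.T_mem l), S.image_ne hP.2.1 (S.Tp_Z0 l), ?_⟩
  rw [← Set.image_comp, ← Equiv.Perm.coe_mul, jm, Tp_mul, mul_comm, ← Tp_mul, Equiv.Perm.coe_mul,
    Set.image_comp]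
  exact congrArg _ hP.2.2

theorem eq_Us_of_F0 {P : Set (V F)} (hP : P ∈ S.F0) {l : Fˣ} (hl : (l : F) ^ 2 ≠ 1)
    (hfix : Tp l '' P = P) : P = Us F :=
  S.eq_Us_of_torus hP.1 hP.2.1 (fun _ hv => S.x_zero_of_jm hP.1 hP.2.2 hv) hl hfix

/-- The points fixed by the involution, except the last axis. -/
def FS : Type _ := {P : Set (V F) // P ∈ S.F0 ∧ P ≠ Us F}

instance : Finite S.FS := Subtype.finite

theorem Tp_Us (l : Fˣ) : Tp l '' Us F = Us F := by
  refine Set.eq_of_subset_of_ncard_le ?_ ?_ (Set.toFinite _)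
  · rintro _ ⟨v, hv, rfl⟩
    obtain ⟨h1, h2⟩ := mem_Us.1 hv
    exact mem_Us.2 ⟨by simp [Tp_apply, h1], by simp [Tp_apply, h2]⟩
  · rw [Set.ncard_image_of_injective _ (Tp l).injective]

instance fsAction : MulAction (sqGrp F) S.FS where
  smul l P := ⟨Tp l.1 '' P.1, S.F0_T P.2.1 _, fun e => P.2.2
    ((Tp l.1).injective.image_injective (e.trans (S.Tp_Us l.1).symm))⟩
  one_smul P := Subtype.ext (by show Tp _ '' P.1 = P.1; simp [Tp_one])
  mul_smul l m P := Subtype.ext (by
    show Tp _ '' P.1 = Tp _ '' (Tp _ '' P.1)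
    rw [← Set.image_comp, ← Equiv.Perm.coe_mul, Tp_mul]
    rfl)

theorem F0_form : ∃ r, S.F0.ncard = (Fintype.card F - 1) / 2 * r + (S.F0 ∩ {Us F}).ncard := by
  refine ⟨Nat.card (Quotient (MulAction.orbitRel (sqGrp F) S.FS)), ?_⟩
  have h := card_eq_mul_of_free (G := sqGrp F) (X := S.FS) (fun P l hl => by
    by_contra hne
    exact P.2.2 (S.eq_Us_of_F0 P.2.1 (sq_ne_one S.mod4 l.2 (fun e => hne (Subtype.ext e)))
      (congrArg Subtype.val hl)))
  have hhalf : (Fintype.card F - 1) / 2 = Nat.card (sqGrp F) := by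
    have := card_sqGrp (F := F) S.mod4; omega
  rw [hhalf, ← h]
  have hFS : Nat.card S.FS = (S.F0 \ {Us F}).ncard := Nat.card_coe_set_eq _
  rw [hFS]
  have := Set.ncard_inter_add_ncard_diff_eq_ncard S.F0 {Us F} (Set.toFinite _)
  omega

theorem F0_form_none (hU : Us F ∉ S.Pt) : ∃ r, S.F0.ncard = (Fintype.card F - 1) / 2 * r := by
  obtain ⟨r, hr⟩ := S.F0_form
  refine ⟨r, ?_⟩
  rwa [show S.F0 ∩ {Us F} = ∅ by
    ext P; simp only [Set.mem_inter_iff, Set.mem_singleton_iff, Set.mem_empty_iff_false, iff_false]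
    rintro ⟨h1, rfl⟩; exact hU h1.1, Set.ncard_empty, add_zero] at hr

theorem F0_form_mem (hU : Us F ∈ S.F0) :
    ∃ r, S.F0.ncard = (Fintype.card F - 1) / 2 * r + 1 := by
  obtain ⟨r, hr⟩ := S.F0_form
  refine ⟨r, ?_⟩
  rwa [show S.F0 ∩ {Us F} = {Us F} from Set.inter_eq_right.2 (Set.singleton_subset_iff.2 hU),
    Set.ncard_singleton] at hr

/-- The orbits of the unipotent group on the other points. -/
abbrev Orb : Type _ := Quotient (MulAction.orbitRel (Multiplicative F) S.Rest)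

/-- A torus element on the other points. -/
def tRest (l : Fˣ) (P : S.Rest) : S.Rest :=
  ⟨Tp l '' P.1, S.image_mem P.2.1 (S.T_mem l), S.image_ne P.2.2 (S.Tp_Z0 l)⟩

instance orbAction : MulAction (sqGrp F) S.Orb where
  smul l := Quotient.map (S.tRest l.1) (by
    rintro P Q ⟨b, hb⟩
    refine ⟨Multiplicative.ofAdd (b.toAdd * ((l.1⁻¹ : Fˣ) : F)), Subtype.ext ?_⟩
    show Yp _ '' (Tp l.1 '' Q.1) = Tp l.1 '' P.1
    rw [← congrArg Subtype.val hb]
    show Yp _ '' (Tp l.1 '' Q.1) = Tp l.1 '' (Yp b.toAdd '' Q.1)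
    rw [← Set.image_comp, ← Set.image_comp, ← Equiv.Perm.coe_mul, ← Equiv.Perm.coe_mul, Tp_Yp]
    simp)
  one_smul c := by
    induction c using Quotient.inductionOn with
    | h P => exact Quotient.sound (by
        refine ⟨1, Subtype.ext ?_⟩
        show Yp _ '' P.1 = Tp _ '' P.1
        simp [Yp_zero, Tp_one])
  mul_smul l m c := by
    induction c using Quotient.inductionOn with
    | h P => exact Quotient.sound (by
        refine ⟨1, Subtype.ext ?_⟩
        show Yp _ '' (Tp l.1 '' (Tp m.1 '' P.1)) = Tp _ '' P.1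
        rw [← Set.image_comp (Tp l.1), ← Equiv.Perm.coe_mul, Tp_mul]
        simp [Yp_zero])

theorem smul_mk (l : sqGrp F) (P : S.Rest) :
    l • (Quotient.mk _ P : S.Orb) = Quotient.mk _ (S.tRest l.1 P) := rfl

/-- The orbit of a point fixed by the involution. -/
def orbOf (P : S.F0) : S.Orb := Quotient.mk _ ⟨P.1, P.2.1, P.2.2.1⟩

theorem orbOf_inj : Function.Injective S.orbOf := by
  rintro ⟨P, hP⟩ ⟨Q, hQ⟩ e
  obtain ⟨b, hb⟩ := Quotient.exact e
  have hb' : Yp b.toAdd '' Q = P := congrArg Subtype.val hb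
  by_cases h0 : b.toAdd = 0
  · simp [h0, Yp_zero] at hb'
    exact Subtype.ext hb'.symm
  exfalso
  have h1 : Yp (-b.toAdd) '' Q = P := by
    calc Yp (-b.toAdd) '' Q = Yp (-b.toAdd) '' (jm F '' Q) := by rw [hQ.2.2]
      _ = jm F '' (Yp b.toAdd '' Q) := by
          rw [← Set.image_comp, ← Set.image_comp, ← Equiv.Perm.coe_mul, ← Equiv.Perm.coe_mul,
            jm, Tp_Yp]
          congr 3
          simp
      _ = P := by rw [hb', hP.2.2]
  have h2 : Yp (b.toAdd + b.toAdd) '' Q = Q := by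
    rw [← Yp_mul, Equiv.Perm.coe_mul, Set.image_comp, hb', ← h1, ← Set.image_comp,
      ← Equiv.Perm.coe_mul, Yp_mul, add_neg_cancel, Yp_zero]
    simp
  exact S.Yp_image_ne hQ.1 hQ.2.1 (by rw [← two_mul]; exact mul_ne_zero S.two_ne' h0) h2

theorem no_two_orbits (h5 : 5 < Fintype.card F) (hU : Us F ∉ S.Pt)
    (hk : S.kk = S.F0.ncard + 2) : False := by
  classical
  haveI := Fintype.ofFinite S.Orb
  let E : Set S.Orb := (Set.range S.orbOf)ᶜ
  have hE : E.ncard = 2 := by
    rw [Set.ncard_compl, Set.ncard_range_of_injective S.orbOf_inj, Nat.card_coe_set_eq]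
    show S.kk - _ = 2
    omega
  have hclosed : ∀ (l : sqGrp F), ∀ c ∈ E, l • c ∈ E := by
    rintro l c hc ⟨P, hP⟩
    refine hc ⟨⟨Tp (l⁻¹ : sqGrp F).1 '' P.1, S.F0_T P.2 _⟩, ?_⟩
    have : c = l⁻¹ • S.orbOf P := by rw [hP, inv_smul_smul]
    rw [this]; rfl
  obtain ⟨c, hc⟩ : E.Nonempty := Set.nonempty_of_ncard_ne_zero (by omega)
  have horb : MulAction.orbit (sqGrp F) c ⊆ E := by
    rintro _ ⟨l, rfl⟩; exact hclosed l c hc
  have hsize : (MulAction.orbit (sqGrp F) c).ncard = 1 := by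
    have h1 := Set.ncard_le_ncard horb (Set.toFinite _)
    have h2 : 0 < (MulAction.orbit (sqGrp F) c).ncard :=
      (Set.ncard_pos (Set.toFinite _)).2 ⟨c, MulAction.mem_orbit_self c⟩
    have h3 : (MulAction.orbit (sqGrp F) c).ncard ∣ Nat.card (sqGrp F) := by
      rw [← MulAction.index_stabilizer]
      exact Subgroup.index_dvd_card _
    by_contra hne
    have h4 : (MulAction.orbit (sqGrp F) c).ncard = 2 := by omega
    rw [h4] at h3
    exact Nat.not_even_iff_odd.2 (odd_sqGrp S.mod4) (even_iff_two_dvd.2 h3)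
  obtain ⟨g, hg⟩ := IsCyclic.exists_generator (α := sqGrp F)
  have hgc : g • c = c := by
    obtain ⟨a, ha⟩ := Set.ncard_eq_one.1 hsize
    exact (Set.mem_singleton_iff.1 (ha ▸ MulAction.mem_orbit c g)).trans
      (Set.mem_singleton_iff.1 (ha ▸ MulAction.mem_orbit_self c)).symm
  obtain ⟨P, rfl⟩ := Quotient.exists_rep c
  obtain ⟨b, hb⟩ := Quotient.exact hgc
  have hb' : Yp b.toAdd '' P.1 = Tp g.1 '' P.1 := congrArg Subtype.val hb
  have hg1 : (g.1 : F) ≠ 1 := fun e => by
    have hh : Nat.card (sqGrp F) = 1 := by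
      haveI : Subsingleton (sqGrp F) := ⟨fun a b => by
        have e1 : g = 1 := Subtype.ext (Units.ext e)
        have ha := hg a; have hb := hg b
        rw [e1, Subgroup.zpowers_one_eq_bot, Subgroup.mem_bot] at ha hb
        rw [ha, hb]⟩
      exact Nat.card_unique
    have := card_sqGrp (F := F) S.mod4
    omega
  have hgi : (1 : F) - ((g.1⁻¹ : Fˣ) : F) ≠ 0 := fun e => hg1 (by
    have h6 : ((g.1⁻¹ : Fˣ) : F) = 1 := (sub_eq_zero.1 e).symm
    rw [Units.val_inv_eq_inv_val, inv_eq_one] at h6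
    exact h6)
  set d := b.toAdd / (1 - ((g.1⁻¹ : Fˣ) : F))
  have hR : Tp g.1 '' (Yp d '' P.1) = Yp d '' P.1 := by
    rw [← Set.image_comp, ← Equiv.Perm.coe_mul, Tp_Yp, Equiv.Perm.coe_mul, Set.image_comp, ← hb',
      ← Set.image_comp, ← Equiv.Perm.coe_mul, Yp_mul]
    congr 2
    congr 1
    rw [← mul_left_inj' hgi]
    simp only [d, add_mul]
    rw [mul_assoc, mul_comm ((g.1⁻¹ : Fˣ) : F), ← mul_assoc, div_mul_cancel₀ _ hgi]
    ring
  set R := Yp d '' P.1
  have hR1 : R ∈ S.Pt := S.image_mem P.2.1 (S.Y_mem d)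
  have hRne : R ≠ Z0 F := S.image_ne P.2.2 (S.Yp_Z0 d)
  have hall : ∀ l : sqGrp F, Tp l.1 '' R = R := by
    intro l
    obtain ⟨k, rfl⟩ := Subgroup.mem_zpowers_iff.1 (hg l)
    let T : Subgroup Fˣ :=
      { carrier := {m | Tp m '' R = R}
        one_mem' := by simp [Tp_one]
        mul_mem' := fun {a b} ha hb => by
          show Tp (a * b) '' R = R
          rw [← Tp_mul, Equiv.Perm.coe_mul, Set.image_comp, hb, ha]
        inv_mem' := fun {a} ha => by
          show Tp a⁻¹ '' R = R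
          conv_lhs => rw [← ha, ← Set.image_comp, ← Equiv.Perm.coe_mul, Tp_mul, inv_mul_cancel]
          simp [Tp_one] }
    exact (show ((g ^ k : sqGrp F) : Fˣ) ∈ T by
      rw [SubgroupClass.coe_zpow]; exact T.zpow_mem hR k)
  rcases S.eq_Us_or_Xs h5 hR1 hRne (fun m hm v hv => by
      have := hall ⟨(Units.mk0 m hm) ^ 2, Units.mk0 m hm, rfl⟩
      rw [← this]
      exact ⟨v, hv, by simp [Tp_apply]⟩) with e | e
  · exact hU (e ▸ hR1)
  · exact S.Xs_not_mem (e ▸ hR1)

theorem F0_zero_of_none (h5 : 5 < Fintype.card F) (hU : Us F ∉ S.Pt) : S.F0.ncard = 0 := by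
  obtain ⟨r, hr⟩ := S.F0_form_none hU
  have hq := S.mod4
  have hb := S.F0_bound
  set q := Fintype.card F with hqdef
  have hr2 : r ≤ 2 := by
    by_contra h
    have := Nat.mul_le_mul_left ((q - 1) / 2) (show 3 ≤ r by omega)
    omega
  interval_cases r
  · simpa using hr
  · exfalso
    have hH : (q + 1) / 2 ∣ 1 + q * S.kk := by
      have := S.F0_dvd'
      rwa [hr, show (q - 1) / 2 * 1 + 1 = (q + 1) / 2 by omega] at this
    have hk1 : (q + 1) / 2 ∣ S.kk - 1 := by
      have h2 : (q + 1) / 2 ∣ (q + 1) * S.kk :=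
        Dvd.dvd.mul_right ⟨2, by omega⟩ _
      have h3 : (q + 1) * S.kk - (1 + q * S.kk) = S.kk - 1 := by
        rw [add_mul, one_mul]; omega
      rw [← h3]
      exact Nat.dvd_sub h2 hH
    obtain ⟨c, hc⟩ := hk1
    have hle := S.kk_le
    have hF := S.F0_le
    have hcc : c = 1 := by
      by_contra hne
      rcases Nat.lt_or_gt_of_ne hne with h | h
      · have : c = 0 := by omega
        subst this; simp at hc; omega
      · have := Nat.mul_le_mul_left ((q + 1) / 2) (show 2 ≤ c by omega)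
        omega
    subst hcc
    exact S.no_two_orbits h5 hU (by omega)
  · exfalso
    apply S.not_dvd_F0
    rw [hr, show (q - 1) / 2 * 2 + 1 = q by omega]
    exact S.p_dvd_card

end Setting

end Cfsg.Agent.PSp4Local
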